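import Cfsg.Agent.FS.Gen.Base

/-!
# Isomorphism certificates and quotients in the form of `Pc.Ext` (helper79, project FS)

* `Ext.rel`, `Rel.ext`: `Pc.Ext` against `Rel`, `Gn`.  `P0.isPc`: a target without tails as `Pc.IsPc` with normal forms.
* `isoK`: the table of a base is built once, the continuation gets the checker of isomorphism certificates.
* `extK`: the same with a pair (base, class) as the target.
* `Ext.quot`: the quotient by `z` as an extension of the next quotient.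
-/

set_option autoImplicit false

namespace Cfsg.Agent.FS.Gen

open Pc (el zp Base Ext)

universe u v

variable {G : Type u} [Group G]

theorem ev_relf {r n w P c : ℕ} {z : G} (z2 : z * z = 1) (x : ℕ → G) (hw : r + n ≤ w) {k : ℕ} (hk : k < n) (j : ℕ) :
    ev r n c z x (relf r w P k j) = el (Pc.gens z c r x) (r + k) (Pc.get w P (Pc.tri k j)) := by
  have h4 : ∀ i, i < r + k → (relf r w P k j).testBit i = (Pc.get w P (Pc.tri k j)).testBit i := fun i hi => by
    have h5 : i < w := by omega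
    show Nat.testBit (low (r + k) (P >>> (w * tr k j))) i = _
    rw [low_eq, Nat.testBit_mod_two_pow, Pc.testBit_get, decide_eq_true hi, decide_eq_true h5,
      Nat.testBit_shiftRight, tr_eq]
  rw [← Pc.el_congr _ (r + k) h4, Pc.el_gens z2, par_eq]
  unfold ev
  rw [Pc.el_of_lt x (a := relf r w P k j >>> r) (shiftRight_lt (low_lt (r + k) _)) hk.le]
  rfl

theorem Ext.rel {z : G} {x : ℕ → G} {c r n w P : ℕ} (h : Ext z x c r n w P) :
    Rel r n (relf r w P) c z x ∧ Gn n z x := by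
  refine ⟨⟨h.z2, h.zc, fun k hk => ?_, fun k hk j hj => ?_⟩, fun H hz hx g => ?_⟩
  · have h1 := h.pc.pw k hk
    rwa [Pc.gens_add, ← ev_relf h.z2 x h.width hk] at h1
  · have h1 := h.pc.cj k hk j hj
    rwa [Pc.gens_add, Pc.gens_add, ← ev_relf h.z2 x h.width hk] at h1
  · obtain ⟨a, -, e, rfl⟩ := h.span' g
    exact H.mul_mem (el_mem a n hx) (zp_mem hz e)

theorem Rel.span {r n c : ℕ} {R : ℕ → ℕ → ℕ} {z : G} {x : ℕ → G} (h1 : Rel r n R c z x) (hb : Bd r n R)
    (h2 : Gn n z x) (y : G) : ∃ a, a < 2 ^ n ∧ ∃ e, y = el x n a * zp z e := by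
  have hm := h1.mu hb
  let H : Submonoid G :=
    { carrier := {y | ∃ A, A < 2 ^ (r + n) ∧ ∃ e, y = ev r n c z x A * zp z e}
      one_mem' := ⟨0, Nat.two_pow_pos _, false, by rw [(h1.toEv hb).zero]; exact (mul_one _).symm⟩
      mul_mem' := by
        rintro _ _ ⟨A, hA, e, rfl⟩ ⟨B, hB, f, rfl⟩
        refine ⟨_, (hm A hA B hB).1, xor e f, ?_⟩
        rw [← (hm A hA B hB).2, Pc.zp_xor h1.z2, mul_assoc, ← mul_assoc (zp z e), h1.zp_comm e]
        simp only [mul_assoc] }
  obtain ⟨A, hA, e, h5⟩ := h2 H ⟨0, Nat.two_pow_pos _, true, by rw [(h1.toEv hb).zero]; exact (one_mul _).symm⟩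
    (fun k hk => ⟨2 ^ (r + k), Nat.pow_lt_pow_right (by norm_num) (Nat.add_lt_add_left hk r), false, by
      rw [ev_gen r hk]; exact (mul_one _).symm⟩) y
  unfold ev at h5
  rw [mul_assoc, ← Pc.zp_xor h1.z2] at h5
  exact ⟨A >>> r, shiftRight_lt hA, _, h5⟩

theorem Rel.ext {r n c w P : ℕ} {z : G} {x : ℕ → G} (h1 : Rel r n (relf r w P) c z x) (h2 : Gn n z x)
    (hw : r + n ≤ w) (hG : Nat.card G = 2 ^ (n + 1)) : Ext z x c r n w P := by
  have h4 : ∀ i, i < r → Pc.gens z c r x i = zp z (c.testBit i) := fun i hi => if_pos hi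
  refine ⟨⟨fun i hi => ?_, fun i hi y => ?_, fun k hk => ?_, fun k hk j hj => ?_⟩, hw, h1.z2, h1.zc, fun y => ?_, hG⟩
  · rw [h4 i hi, ← Pc.zp_xor h1.z2, Bool.xor_self]
    rfl
  · rw [h4 i hi, h1.zp_comm]
  · rw [Pc.gens_add, h1.pw k hk, ev_relf h1.z2 x hw hk]
  · rw [Pc.gens_add, Pc.gens_add, h1.cj k hk j hj, ev_relf h1.z2 x hw hk]
  · obtain ⟨a, ha, e, h5⟩ := h1.span (relf_bd r n w P) h2 y
    refine ⟨a, ha, ?_⟩
    cases e
    · exact Or.inl (h5.trans (mul_one _))
    · exact Or.inr h5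

/-- A target without tails. -/
theorem P0.isPc {n : ℕ} {T : Base} {y : ℕ → G} (h : P0 n T y) (hr : T.r = 0) (hw : n ≤ T.w) :
    Pc.IsPc y 0 n T.w T.rel ∧ ∀ g : G, ∃ a, a < 2 ^ n ∧ g = el y n a := by
  obtain ⟨r, w, P, cnt, reps⟩ := T
  obtain rfl : r = 0 := hr
  obtain ⟨h1, h2⟩ := h
  have h3 : ∀ k, k < n → ∀ j, ev 0 n 0 1 y (topf 0 w P k j) = el y (0 + k) (Pc.get w P (Pc.tri k j)) := fun k hk j =>
    (ev_relf (r := 0) (mul_one _) y (by rw [Nat.zero_add]; exact hw) hk j).trans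
      (Pc.el_congr_g _ _ fun i _ => if_neg (Nat.not_lt_zero i))
  refine ⟨⟨fun i hi => by omega, fun i hi => by omega, fun k hk => ?_, fun k hk j hj => ?_⟩, fun g => ?_⟩
  · rw [← h3 k hk, Nat.zero_add]
    exact h1.pw k hk
  · rw [← h3 k hk, Nat.zero_add, Nat.zero_add]
    exact h1.cj k hk j hj
  · obtain ⟨a, ha, e, h5⟩ := h1.span (topf_bd 0 n w P) h2 g
    refine ⟨a, ha, ?_⟩
    cases e <;> exact h5.trans (mul_one _)

/-- The table of the base `(r, w, P)` with the extra tail `z`; the continuation gets the multiplication. -/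
noncomputable def plusK (n r w P : ℕ) (k : (ℕ → ℕ → ℕ) → Bool) : Bool :=
  frc (Nat.add (Nat.succ r) n) fun wp => frc (Nat.shiftLeft wp n) fun W =>
    frc (tab (Nat.succ r) wp (fun k j => Nat.mul 2 (relf r w P k j)) n) fun M => k (mul (Nat.succ r) wp W M)

theorem plusK_spec {n r w P : ℕ} {k : (ℕ → ℕ → ℕ) → Bool} (h : plusK n r w P k = true) :
    ∃ m, k m = true ∧ ∀ (G : Type u) [Group G] (z : G) (x : ℕ → G) (c : ℕ), Rel r n (relf r w P) c z x →
      Mu (r + 1 + n) (ev (r + 1) n (2 * c + 1) z x) m := by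
  unfold plusK at h
  rw [frc_eq, frc_eq, frc_eq] at h
  exact ⟨_, h, fun G _ z x c h1 => h1.plus.mu (relf_bd r n w P).plus⟩

/-- The continuation gets the checker `chk c ce` of isomorphism certificates from the class `c` onto a member of `LL`
(words of `r + 1 + n` bits, bit `0` is `z`; see `icOK`). -/
noncomputable def isoK (n : ℕ) (LL : List (List Base)) (r w P : ℕ) (k : (ℕ → Ic → Bool) → Bool) : Bool :=
  plusK n r w P fun m => k fun c a => Ic.rec (motive := fun _ => Bool) (fun ix Y I =>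
    frc (Nat.succ (Nat.mul 2 c)) fun c => icOK n (Nat.succ r) (Nat.add (Nat.succ r) n) c m LL ix Y I) a

theorem isoK_spec {n r w P : ℕ} {LL : List (List Base)} {k : (ℕ → Ic → Bool) → Bool} (h : isoK n LL r w P k = true) :
    ∃ chk, k chk = true ∧ ∀ c a, chk c a = true → ∀ (G : Type u) [Group G] (z : G) (x : ℕ → G),
      Ext z x c r n w P → ∃ l ∈ LL, ∃ T ∈ l, ∃ y : ℕ → G, P0 (n + 1) T y := by
  obtain ⟨m, h1, h2⟩ := plusK_spec.{u} h
  refine ⟨_, h1, ?_⟩
  rintro c ⟨ix, Y, I⟩ h3 G _ z x h4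
  have h5 : (frc (Nat.succ (Nat.mul 2 c)) fun c =>
    icOK n (Nat.succ r) (Nat.add (Nat.succ r) n) c m LL ix Y I) = true := h3
  rw [frc_eq] at h5
  obtain ⟨h6, h7⟩ := Ext.rel h4
  exact icOK_spec h6.plus (relf_bd r n w P).plus h7 (h2 G z x c h6) h5

/-- A certificate from the class `c` of the base with multiplication `m` onto the class `c'` of `(r', w', P')`, with
the same `z`: `Y` has `n` words of `r + 1 + n` bits, `I` the `n` inverse words of `n` bits. -/
noncomputable def extOK (n r : ℕ) (m : ℕ → ℕ → ℕ) (c r' w' P' c' Y I : ℕ) : Bool :=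
  frc (Nat.succ (Nat.mul 2 c)) fun c => frc (Nat.add (Nat.succ r) n) fun wp =>
    band (Nat.ble (Nat.add r' n) w') (band (homR m (gt wp Y) (gt 1 c') r' n (relf r' w' P')
      fun _ _ d => frc d fun d => band (Nat.blt d (Nat.pow 2 (Nat.succ r))) (Nat.beq (pty (Nat.succ r) d c) 0))
      (invs m (gt wp Y) (Nat.succ r) n n I))

theorem extOK_spec {n r w P c r' w' P' c' Y I : ℕ} {m : ℕ → ℕ → ℕ} {z : G} {x : ℕ → G} (h : Ext z x c r n w P)
    (hm : Mu (r + 1 + n) (ev (r + 1) n (2 * c + 1) z x) m) (hc : extOK n r m c r' w' P' c' Y I = true) :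
    ∃ y, Ext z y c' r' n w' P' := by
  unfold extOK at hc
  rw [frc_eq, frc_eq] at hc
  obtain ⟨h1, hc⟩ := band_spec hc
  obtain ⟨h2, h3⟩ := band_spec hc
  obtain ⟨h6, h7⟩ := Ext.rel h
  have hb := (relf_bd r n w P).plus
  refine ⟨_, (h6.plus.hom hb hm (gt_lt _ Y) (μ := gt 1 c') (fun i => (gt_lt 1 c' i).trans_le
    (Nat.pow_le_pow_right (by norm_num) (by omega))) (c' := c') (fun i _ => ?_) (relf_bd r' n w' P')
    (fun k j d hd => ?_) h2).ext (h6.plus.gn hb hm (gt_lt _ Y) h3 h7) (Nat.le_of_ble_eq_true h1) h.card⟩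
  · have h4 : (gt 1 c' i).testBit 0 = c'.testBit i := by rw [gt_testBit, Nat.one_mul]; rfl
    have h5 := gt_lt 1 c' i
    rw [← h4]
    obtain h8 | h8 : gt 1 c' i = 0 ∨ gt 1 c' i = 2 ^ 0 := by omega
    · rw [h8, dot_zero_left, Nat.zero_testBit]
    · rw [h8, dot_two_pow (Nat.succ_pos r), Nat.testBit_zero, Nat.testBit_zero, Nat.mul_add_mod]
      rfl
  · rw [frc_eq] at hd
    obtain ⟨h8, h9⟩ := band_spec hd
    refine ⟨blt_lt h8, ?_⟩
    rw [← pty_spec (blt_lt h8)]
    erw [Nat.eq_of_beq_eq_true h9]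
    rfl

/-- the relations of the quotient by `z`, read as an extension with one tail -/
noncomputable def quoOK (n r w P w' P' : ℕ) : Bool :=
  band (Nat.ble (Nat.succ n) w') (allB n fun k => band (Nat.beq (topf r w P (Nat.succ k) 0) 1)
    (allB (Nat.succ k) fun j => Nat.beq (relf 1 w' P' k j) (topf r w P (Nat.succ k) (Nat.succ j))))

theorem card_of_ker {G' : Type v} [Group G'] (π : G →* G') (hπ : Function.Surjective π) {z : G} (z1 : z ≠ 1)
    (hker : ∀ g, π g = 1 ↔ g = 1 ∨ g = z) {n : ℕ} (hG : Nat.card G = 2 ^ (n + 1)) : Nat.card G' = 2 ^ n := by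
  have h1 := Subgroup.card_eq_card_quotient_mul_card_subgroup π.ker
  have h2 : Nat.card π.ker = 2 := by
    rw [show (Nat.card π.ker) = Set.ncard {1, z} from by
      rw [← Nat.card_coe_set_eq]
      exact Nat.card_congr (Equiv.subtypeEquivRight fun g => hker g), Set.ncard_pair z1.symm]
  rw [hG, h2, Nat.card_congr (QuotientGroup.quotientKerEquivOfSurjective π hπ).toEquiv, pow_succ] at h1
  omega

/-- **The quotient by `z`.** -/
theorem Ext.quot {z : G} {x : ℕ → G} {c r n w P w' P' : ℕ} (h : Ext z x c r (n + 1) w P)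
    (hq : quoOK n r w P w' P' = true) {G' : Type v} [Group G'] (π : G →* G') (hπ : Function.Surjective π)
    (hker : ∀ g, π g = 1 ↔ g = 1 ∨ g = z) : Ext (π (x 0)) (fun i => π (x (i + 1))) 1 1 n w' P' := by
  obtain ⟨h1, h2⟩ := Ext.rel h
  obtain ⟨h3, h4⟩ := band_spec hq
  have hz : π z = 1 := (hker z).2 (Or.inr rfl)
  have h5 : ∀ A, π (ev r (n + 1) c z x A) = el (fun i => π (x i)) (n + 1) (A >>> r) := fun A => by
    unfold ev
    rw [map_mul, Pc.map_el]
    cases dot r A c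
    · exact (congrArg _ (map_one π)).trans (mul_one _)
    · exact (congrArg _ hz).trans (mul_one _)
  have h6 : ∀ B, ev 1 n 1 (π (x 0)) (fun i => π (x (i + 1))) B = el (fun i => π (x i)) (n + 1) B := fun B => by
    unfold ev
    rw [Nat.add_comm n 1, Pc.el_split, dot_comm, show dot 1 1 B = dot 1 (2 ^ 0) B from rfl, dot_two_pow Nat.one_pos,
      Pc.el_succ, Pc.el_zero, mul_one]
    congr 1
    exact Pc.el_congr_g _ n fun k _ => by rw [Nat.add_comm]
  have h7 : ∀ k, k < n → ∀ j, j ≤ k → ev 1 n 1 (π (x 0)) (fun i => π (x (i + 1))) (relf 1 w' P' k j) =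
      π (ev r (n + 1) c z x (relf r w P (k + 1) (j + 1))) := fun k hk j hj => by
    rw [h6, h5, Nat.eq_of_beq_eq_true (allB_spec (band_spec (allB_spec h4 k hk)).2 j (Nat.lt_succ_of_le hj))]
    rfl
  have h8 : Gn (n + 1) 1 fun i => π (x i) := fun H _ hx g => by
    obtain ⟨g, rfl⟩ := hπ g
    exact h2 (H.comap π) (by show π z ∈ H; rw [hz]; exact H.one_mem) hx g
  refine Rel.ext ⟨?_, fun y => ?_, fun k hk => ?_, fun k hk j hj => ?_⟩ (fun H h9 h10 => h8 H H.one_mem fun k hk => ?_)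
    (by have := Nat.le_of_ble_eq_true h3; omega) (card_of_ker π hπ h.z_ne hker h.card)
  · have h9 := topf_bd r (n + 1) w P 0 (Nat.succ_pos n) 0 le_rfl
    rw [← map_mul, h1.pw 0 (Nat.succ_pos n), h5, show relf r w P 0 0 >>> r = 0 from by
      show topf r w P 0 0 = 0; omega, Pc.el_nil]
  · refine h8 (Submonoid.centralizer {π (x 0)}) (Submonoid.one_mem _) (fun k hk => ?_) y _ rfl
    rintro _ rfl
    cases k with
    | zero => rfl
    | succ k =>
      have h9 := el_top' (fun i => π (x i)) (Nat.succ_pos n) (Nat.two_pow_pos 0)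
      rw [Nat.zero_xor, Pc.el_nil, mul_one] at h9
      rw [← map_mul, h1.cj (k + 1) hk 0 (Nat.succ_pos k), map_mul, h5, show relf r w P (k + 1) 0 >>> r = 2 ^ 0 from
        Nat.eq_of_beq_eq_true (band_spec (allB_spec h4 k (by omega))).1, h9]
  · rw [h7 k hk k le_rfl, ← h1.pw (k + 1) (by omega), map_mul]
  · rw [h7 k hk j hj.le, ← map_mul, ← map_mul, h1.cj (k + 1) (by omega) (j + 1) (by omega)]
  · cases k with
    | zero => exact h9
    | succ k => exact h10 k (by omega)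

end Cfsg.Agent.FS.Gen
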