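import Cfsg.Agent.FS.Gen.Pr

/-!
# Verified generation of 2-groups: the checks and the induction (helper79, project FS, part A)

`BB n LL`: every group of order `2 ^ n` has the presentation of a base of `LL` without its tails.  `AA n LL`: every
group of order `2 ^ (n + 1)` with a central involution `z` occurs in a base of `LL`.  `baseOK` checks the step from
`BB n` to `AA n` for one base (consistency equations, coboundaries, automorphisms, orbit cover), `isoOK` the step from
`AA n` to `BB (n + 1)`.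
-/

set_option autoImplicit false

namespace Cfsg.Agent.FS.Gen

open Pc (el zp Base)

universe u

/-- conjunction, the left side first -/
@[reducible] noncomputable def band (a b : Bool) : Bool := Bool.rec false b a

theorem band_spec {a b : Bool} (h : band a b = true) : a = true ∧ b = true := by
  cases a
  · cases h
  · exact ⟨rfl, h⟩

/-- all members of a list -/
noncomputable def allL {α : Type} (p : α → Bool) (L : List α) : Bool := List.rec true (fun a _ ih => band (p a) ih) L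

theorem allL_spec {α : Type} {p : α → Bool} : ∀ {L : List α}, allL p L = true → ∀ a ∈ L, p a = true
  | [], _, _, h => by cases h
  | _ :: _, h, a, ha => by
    obtain ⟨h1, h2⟩ := band_spec h
    rcases List.mem_cons.1 ha with h3 | h3
    · rw [h3, h1]
    · exact allL_spec h2 a h3

/-- all members of a list, with certificates -/
noncomputable def all2 {α β : Type} (p : α → β → Bool) (L : List α) : List β → Bool :=
  List.rec (fun _ => true) (fun a _ ih M => List.rec false (fun b M' _ => band (p a b) (ih M')) M) L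

theorem all2_spec {α β : Type} {p : α → β → Bool} :
    ∀ {L : List α} {M : List β}, all2 p L M = true → ∀ a ∈ L, ∃ b, p a b = true
  | [], _, _, _, h => by cases h
  | _ :: _, [], h, _, _ => by cases h
  | _ :: _, b :: _, h, a, ha => by
    obtain ⟨h1, h2⟩ := band_spec h
    rcases List.mem_cons.1 ha with h3 | h3
    · exact ⟨b, by rw [h3, h1]⟩
    · exact all2_spec h2 a h3

/-- all numbers below `N`, with certificates in decreasing order -/
noncomputable def allN {β : Type} (p : ℕ → β → Bool) (N : ℕ) : List β → Bool :=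
  Nat.rec (fun _ => true) (fun i ih M => List.rec false (fun b M' _ => band (p i b) (ih M')) M) N

theorem allN_spec {β : Type} {p : ℕ → β → Bool} :
    ∀ {N : ℕ} {M : List β}, allN p N M = true → ∀ i, i < N → ∃ b, p i b = true
  | 0, _, _, _, h => by omega
  | _ + 1, [], h, _, _ => by cases h
  | _ + 1, b :: _, h, i, hi => by
    obtain ⟨h1, h2⟩ := band_spec h
    rcases Nat.lt_succ_iff_lt_or_eq.1 hi with h3 | h3
    · exact allN_spec h2 i h3
    · exact ⟨b, by rw [h3, h1]⟩

/-- the member number `k` has the property `p` -/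
noncomputable def look {α : Type} (p : α → Bool) (L : List α) : ℕ → Bool :=
  List.rec (fun _ => false) (fun a _ ih k => Nat.rec (p a) (fun k _ => ih k) k) L

theorem look_spec {α : Type} {p : α → Bool} : ∀ {L : List α} {k : ℕ}, look p L k = true → ∃ a ∈ L, p a = true
  | [], _, h => by cases h
  | a :: _, 0, h => ⟨a, List.mem_cons_self, h⟩
  | _ :: L, k + 1, h => by
    obtain ⟨a, h1, h2⟩ := look_spec (L := L) (k := k) h
    exact ⟨a, List.mem_cons_of_mem _ h1, h2⟩

/-- the set of the representatives -/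
noncomputable def seedsT (r cnt reps j : ℕ) : ℕ → ℕ :=
  Nat.rec (fun b => Nat.shiftLeft 1 (gt r reps b)) (fun j ih b => frc (Nat.add b (Nat.pow 2 j)) fun b' =>
    Bool.rec (ih b) (Nat.lor (ih b) (ih b')) (Nat.blt b' cnt)) j

theorem seedsT_spec {r cnt reps c : ℕ} : ∀ j b, b < cnt → (seedsT r cnt reps j b).testBit c = true →
    ∃ i, i < cnt ∧ c = gt r reps i
  | 0, b, hb, h => by
    have h1 : Nat.testBit (1 <<< gt r reps b) c = true := h
    rw [Nat.one_shiftLeft, Nat.testBit_two_pow, decide_eq_true_iff] at h1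
    exact ⟨b, hb, h1.symm⟩
  | j + 1, b, hb, h => by
    have h1 : seedsT r cnt reps (j + 1) b = Bool.rec (motive := fun _ => ℕ) (seedsT r cnt reps j b)
      (seedsT r cnt reps j b ||| seedsT r cnt reps j (b + 2 ^ j)) (Nat.blt (b + 2 ^ j) cnt) :=
      frc_eq (b + 2 ^ j) fun b' => Bool.rec (motive := fun _ => ℕ) (seedsT r cnt reps j b)
        (Nat.lor (seedsT r cnt reps j b) (seedsT r cnt reps j b')) (Nat.blt b' cnt)
    rw [h1] at h
    cases h2 : Nat.blt (b + 2 ^ j) cnt
    · rw [h2] at h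
      exact seedsT_spec j b hb h
    · rw [h2] at h
      have h3 : Nat.testBit (_ ||| _) c = true := h
      rw [Nat.testBit_or, Bool.or_eq_true] at h3
      rcases h3 with h3 | h3
      · exact seedsT_spec j b hb h3
      · exact seedsT_spec j _ (blt_lt h2) h3

/-- the rows of the identity matrix -/
noncomputable def idm (w k : ℕ) : ℕ :=
  Nat.rec 0 (fun i a => Nat.xor a (Nat.shiftLeft (Nat.pow 2 i) (Nat.mul w i))) k

theorem idm_spec {w : ℕ} (i : ℕ) : ∀ k, k ≤ w → gt w (idm w k) i = if i < k then 2 ^ i else 0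
  | 0, _ => by
    rw [if_neg (by omega), show idm w 0 = 0 from rfl, gt_eq, Nat.zero_shiftRight, Nat.zero_mod]
  | k + 1, hk => by
    have h1 : idm w (k + 1) = idm w k ^^^ (2 ^ k) <<< (w * k) := rfl
    rw [h1, gt_xor, idm_spec i k (by omega), gt_shiftLeft (Nat.pow_lt_pow_right (by norm_num) hk)]
    rcases Nat.lt_trichotomy i k with h | h | h
    · rw [if_pos h, if_neg h.ne, if_pos (by omega), Nat.xor_zero]
    · rw [if_neg (by omega), if_pos h, if_pos (by omega), Nat.zero_xor, h]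
    · rw [if_neg (by omega), if_neg h.ne', if_neg (by omega), Nat.xor_zero]

/-- the relations of a base -/
def relf (r w P k j : ℕ) : ℕ := low (Nat.add r k) (Nat.shiftRight P (Nat.mul w (tr k j)))

/-- the relations without tails -/
def topf (r w P k j : ℕ) : ℕ := Nat.shiftRight (relf r w P k j) r

theorem relf_bd (r n w P : ℕ) : Bd r n (relf r w P) := fun _ _ _ _ => low_lt _ _

theorem topf_bd (r n w P : ℕ) : Bd 0 n (topf r w P) := fun k _ j _ => by
  rw [Nat.zero_add]
  exact shiftRight_lt (low_lt (r + k) _)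

/-- a consistency equation -/
noncomputable def eqn (m : ℕ → ℕ → ℕ) (r n tri s : ℕ) : ℕ :=
  frc (gt (Nat.mul 3 n) tri s) fun t => frc (Nat.shiftLeft (gt n t 0) r) fun a => frc (Nat.shiftLeft (gt n t 1) r) fun b =>
    frc (Nat.shiftLeft (gt n t 2) r) fun c => frc (Nat.xor (m (m a b) c) (m a (m b c))) fun d =>
      Bool.rec 0 d (Nat.blt d (Nat.pow 2 r))

/-- certificate for an automorphism: images, inverse words, shears -/
structure Au where
  Y : ℕ
  I : ℕ
  sh : List ℕ

/-- certificate for a base -/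
structure Ce where
  ne : ℕ
  tri : ℕ
  msk : ℕ
  mu : ℕ
  Y : ℕ
  au : List Au
  sch : List ℕ

/-- certificate for an isomorphism: index of the target, images, inverse words -/
structure Ic where
  ix : ℕ
  Y : ℕ
  I : ℕ

/-- from the full presentation to the reduced one -/
noncomputable def redOK (n r w P ne tri msk mu Y : ℕ) : Bool :=
  frc (tr n 0) fun m => frc (Nat.add m n) fun wf => frc (Nat.shiftLeft wf n) fun W =>
    frc (tab m wf (full m (topf r w P)) n) fun M =>
      band (homR (mul m wf W M) (gt wf Y) (gt m mu) r n (relf r w P)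
        fun k j d => Nat.beq d (xsum (eqn (mul m wf W M) m n tri) ne (gt ne msk (tr k j))))
      (invs (mul m wf W M) (gt wf Y) m n n (idm n n))

/-- the automorphisms -/
noncomputable def auOK (n r w P : ℕ) (au : List Au) : Bool :=
  frc (Nat.add r n) fun wr => frc (Nat.shiftLeft wr n) fun W => frc (tab r wr (relf r w P) n) fun M =>
    frc (idm r r) fun D => allL (fun a => Au.rec (motive := fun _ => Bool) (fun Y I sh => frc (rows r r sh D) fun μ =>
      band (homR (mul r wr W M) (gt wr Y) (gt r μ) r n (relf r w P) fun _ _ d => Nat.beq d 0)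
        (invs (mul r wr W M) (gt wr Y) r n n I)) a) au

/-- the check of a base -/
noncomputable def baseOK (n : ℕ) (B : Base) (ce : Ce) : Bool :=
  Base.rec (motive := fun _ => Bool) (fun r w P cnt reps => Ce.rec (motive := fun _ => Bool)
    (fun ne tri msk mu Y au sch => frc r fun r => frc w fun w => frc P fun P =>
      band (Nat.blt 0 r) (band (Nat.ble (Nat.add r n) w) (band (Nat.blt 0 cnt)
        (band (redOK n r w P ne tri msk mu Y) (band (auOK n r w P au)
          (cover r (au.map Au.sh) sch (seedsT r cnt reps r 0))))))) ce) B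

/-- one isomorphism -/
noncomputable def icOK (n r wp c : ℕ) (m : ℕ → ℕ → ℕ) (LL : List (List Base)) (ix Y I : ℕ) : Bool :=
  band (look (fun l => look (fun T => Base.rec (motive := fun _ => Bool) (fun r' w' P' _ _ =>
      homR m (gt wp Y) (fun _ => 0) 0 (Nat.succ n) (topf r' w' P')
        fun _ _ d => frc d fun d => band (Nat.blt d (Nat.pow 2 r)) (Nat.beq (pty r d c) 0)) T) l
      (Nat.mod ix 64)) LL (Nat.div ix 64))
    (band (invs m (gt wp Y) r n (Nat.succ n) I)
      (frc (fold m (gt wp Y) (Nat.succ n) 0 (gt (Nat.succ n) I n)) fun d =>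
        band (Nat.blt d (Nat.pow 2 r)) (Nat.beq (pty r d c) 1)))

/-- the check of the isomorphisms from the extensions of a base -/
noncomputable def isoOK (n : ℕ) (LL : List (List Base)) (B : Base) (cs : List Ic) : Bool :=
  Base.rec (motive := fun _ => Bool) (fun r w P cnt reps => frc (Nat.add (Nat.succ r) n) fun wp =>
    frc (Nat.shiftLeft wp n) fun W => frc (tab (Nat.succ r) wp (fun k j => Nat.mul 2 (relf r w P k j)) n) fun M =>
      allN (fun i a => Ic.rec (motive := fun _ => Bool) (fun ix Y I => frc (Nat.succ (Nat.mul 2 (gt r reps i))) fun c =>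
        icOK n (Nat.succ r) wp c (mul (Nat.succ r) wp W M) LL ix Y I) a) cnt cs) B

variable {G : Type u} [Group G]

/-- `x` satisfies the relations of `B` without tails and generates. -/
def P0 (n : ℕ) (B : Base) (x : ℕ → G) : Prop := Rel 0 n (topf B.r B.w B.rel) 0 1 x ∧ Gn n 1 x

/-- `G` with `z` has the presentation `B` with the class `c`. -/
def Pr (n : ℕ) (B : Base) (c : ℕ) (z : G) : Prop := ∃ x, Rel B.r n (relf B.r B.w B.rel) c z x ∧ Gn n z x

theorem Rel.mu {r n : ℕ} {R : ℕ → ℕ → ℕ} {c : ℕ} {z : G} {x : ℕ → G} (h : Rel r n R c z x) (hb : Bd r n R) :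
    Mu (r + n) (ev r n c z x) (mul r (r + n) ((r + n) <<< n) (tab r (r + n) R n)) := (h.toEv hb).mul_tab

theorem eqn_spec {r n : ℕ} {R : ℕ → ℕ → ℕ} {c : ℕ} {z : G} {x : ℕ → G} (h : Rel r n R c z x) (hb : Bd r n R)
    (hz : z ≠ 1) {m : ℕ → ℕ → ℕ} (hm : Mu (r + n) (ev r n c z x) m) (tri s : ℕ) :
    eqn m r n tri s < 2 ^ r ∧ dot r (eqn m r n tri s) c = false := by
  have key : ∀ a b d, a < 2 ^ (r + n) → b < 2 ^ (r + n) → d < 2 ^ (r + n) → m (m a b) d ^^^ m a (m b d) < 2 ^ r →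
      dot r (m (m a b) d ^^^ m a (m b d)) c = false := fun a b d ha hb' hd h1 => by
    have h2 := (h.toEv hb).tail _ h1 (m (m a b) d)
    rw [← Nat.xor_assoc, Nat.xor_self, Nat.zero_xor, ← (hm _ (hm a ha b hb').1 d hd).2, ← (hm a ha b hb').2,
      ← (hm a ha _ (hm b hb' d hd).1).2, ← (hm b hb' d hd).2, ← mul_assoc, left_eq_mul, ev_tail h1] at h2
    cases h3 : dot r (m (m a b) d ^^^ m a (m b d)) c
    · rfl
    · rw [h3] at h2
      exact (hz h2).elim
  unfold eqn
  simp only [frc_eq]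
  generalize gt (Nat.mul 3 n) tri s = t
  have h1 : ∀ i, Nat.shiftLeft (gt n t i) r < 2 ^ (r + n) := fun i => shiftLeft_lt (gt_lt n t i)
  have h2 := key _ _ _ (h1 0) (h1 1) (h1 2)
  generalize Nat.shiftLeft (gt n t 0) r = a, Nat.shiftLeft (gt n t 1) r = b, Nat.shiftLeft (gt n t 2) r = d at h2 ⊢
  cases h3 : Nat.blt (Nat.xor (m (m a b) d) (m a (m b d))) (Nat.pow 2 r)
  · exact ⟨Nat.two_pow_pos r, dot_zero_left r c⟩
  · exact ⟨blt_lt h3, h2 (blt_lt h3)⟩

theorem dot_zero_right (r a : ℕ) : dot r a 0 = false := by rw [dot_comm, dot_zero_left]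

theorem redOK_spec {n r w P ne tri msk mu Y : ℕ} (h : redOK n r w P ne tri msk mu Y = true) {z : G} (hz : z ≠ 1)
    {t : ℕ} {x : ℕ → G} (h1 : Rel (tr n 0) n (full (tr n 0) (topf r w P)) t z x) (h2 : Gn n z x) :
    ∃ c, c < 2 ^ r ∧ ∃ y, Rel r n (relf r w P) c z y ∧ Gn n z y := by
  unfold redOK at h
  simp only [frc_eq] at h
  obtain ⟨h3, h4⟩ := band_spec h
  have hb := (topf_bd r n w P).full
  have hm := h1.mu hb
  obtain ⟨c, hc, hc'⟩ := exists_bits (fun i => dot (tr n 0) (gt (tr n 0) mu i) t) r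
  refine ⟨c, hc, _, h1.hom hb hm (gt_lt _ Y) (gt_lt _ mu) (fun i hi => (hc' i hi).symm) (relf_bd r n w P)
    (fun k j d hd => ?_) h3, h1.gn hb hm (gt_lt _ Y) h4 h2⟩
  have h5 := eqn_spec h1 hb hz hm tri
  rw [Nat.eq_of_beq_eq_true hd]
  refine ⟨xsum_lt (fun i => (h5 i).1) _ _, ?_⟩
  erw [xsum_spec (fun a => dot (tr n 0) a t) (dot_zero_left _ t) (fun a b => dot_xor_left _ a b t) _ (n := ne) (c := 0)
    (fun i _ => (h5 i).2.trans (Nat.zero_testBit i).symm) ne _ le_rfl (gt_lt _ _ _)]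
  rw [dot_zero_right]
  rfl

theorem auOK_spec {n r w P : ℕ} {au : List Au} (hr : 0 < r) (h : auOK n r w P au = true) {z : G} {a : Au}
    (ha : a ∈ au) {c : ℕ} {x : ℕ → G} (h1 : Rel r n (relf r w P) c z x) (h2 : Gn n z x) :
    ∃ y, Rel r n (relf r w P) (act r a.sh c) z y ∧ Gn n z y := by
  unfold auOK at h
  simp only [frc_eq] at h
  have h0 := allL_spec h a ha
  obtain ⟨Y, I, sh⟩ := a
  obtain ⟨h3, h4⟩ := band_spec h0
  have hb := relf_bd r n w P
  have hm := h1.mu hb
  refine ⟨_, h1.hom hb hm (gt_lt _ Y) (gt_lt _ _) (rows_spec hr (fun a => dot r a c) (dot_zero_left r c)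
    (fun a b => dot_xor_left r a b c) sh (idm r r) c fun i hi => ?_) hb (fun k j d hd => ?_) h3,
    h1.gn hb hm (gt_lt _ Y) h4 h2⟩
  · rw [idm_spec i r le_rfl, if_pos hi, dot_two_pow hi]
  · rw [Nat.eq_of_beq_eq_true hd, dot_zero_left]
    exact ⟨Nat.two_pow_pos r, rfl⟩

theorem baseOK_spec {n : ℕ} {B : Base} {ce : Ce} (h : baseOK n B ce = true) : B.r + n ≤ B.w ∧ ∀ {z : G}, z ≠ 1 →
    ∀ {t : ℕ} {x : ℕ → G}, Rel (tr n 0) n (full (tr n 0) (topf B.r B.w B.rel)) t z x → Gn n z x →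
      ∃ i, i < B.cnt ∧ Pr n B (gt B.r B.reps i) z := by
  obtain ⟨r, w, P, cnt, reps⟩ := B
  obtain ⟨ne, tri, msk, mu, Y, au, sch⟩ := ce
  have h0 : (frc r fun r => frc w fun w => frc P fun P =>
      band (Nat.blt 0 r) (band (Nat.ble (Nat.add r n) w) (band (Nat.blt 0 cnt)
        (band (redOK n r w P ne tri msk mu Y) (band (auOK n r w P au)
          (cover r (au.map Au.sh) sch (seedsT r cnt reps r 0))))))) = true := h
  simp only [frc_eq] at h0
  obtain ⟨h1, h0⟩ := band_spec h0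
  obtain ⟨h2, h0⟩ := band_spec h0
  obtain ⟨h3, h0⟩ := band_spec h0
  obtain ⟨h4, h0⟩ := band_spec h0
  obtain ⟨h5, h6⟩ := band_spec h0
  refine ⟨Nat.le_of_ble_eq_true h2, fun {z} hz {t x} h7 h8 => ?_⟩
  obtain ⟨c, hc, h9⟩ := redOK_spec h4 hz h7 h8
  refine cover_sound (blt_lt h1) h6 (Q := fun c => (∃ y, Rel r n (relf r w P) c z y ∧ Gn n z y) →
    ∃ i, i < cnt ∧ Pr n ⟨r, w, P, cnt, reps⟩ (gt r reps i) z) (fun c _ h10 h11 => ?_) (fun L hL c _ h10 h11 => ?_) c hc h9
  · obtain ⟨i, hi, rfl⟩ := seedsT_spec r 0 (blt_lt h3) h10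
    exact ⟨i, hi, h11⟩
  · obtain ⟨a, ha, rfl⟩ := List.mem_map.1 hL
    obtain ⟨y, h12, h13⟩ := h11
    exact h10 (auOK_spec (blt_lt h1) h5 ha h12 h13)

theorem icOK_spec {n r c : ℕ} {R : ℕ → ℕ → ℕ} {z : G} {x : ℕ → G} (h1 : Rel r n R c z x) (hb : Bd r n R)
    (h2 : Gn n z x) {m : ℕ → ℕ → ℕ} (hm : Mu (r + n) (ev r n c z x) m) {LL : List (List Base)} {ix Y I : ℕ}
    (h : icOK n r (r + n) c m LL ix Y I = true) : ∃ l ∈ LL, ∃ T ∈ l, ∃ y : ℕ → G, P0 (n + 1) T y := by
  unfold icOK at h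
  obtain ⟨h3, h⟩ := band_spec h
  obtain ⟨h4, h⟩ := band_spec h
  rw [frc_eq] at h
  obtain ⟨h5, h6⟩ := band_spec h
  obtain ⟨l, hl, h3⟩ := look_spec h3
  obtain ⟨T, hT, h3⟩ := look_spec h3
  refine ⟨l, hl, T, hT, _, (h1.hom hb hm (gt_lt _ Y) (μ := fun _ => 0) (fun _ => Nat.two_pow_pos r) (c' := 0)
    (fun i hi => by omega) (topf_bd T.r (n + 1) T.w T.rel) (fun k j d hd => ?_) h3).one,
    h1.gn_one hb hm (gt_lt _ Y) (gt_lt _ I n) (blt_lt h5) ?_ (h1.gn hb hm (gt_lt _ Y) h4 h2)⟩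
  · rw [frc_eq] at hd
    obtain ⟨h7, h8⟩ := band_spec hd
    refine ⟨blt_lt h7, ?_⟩
    rw [← pty_spec (blt_lt h7), Nat.eq_of_beq_eq_true h8]
    rfl
  · rw [← pty_spec (blt_lt h5)]
    erw [Nat.eq_of_beq_eq_true h6]
    rfl

theorem isoOK_spec {n : ℕ} {LL : List (List Base)} {B : Base} {cs : List Ic} (h : isoOK n LL B cs = true) {z : G}
    {i : ℕ} (hi : i < B.cnt) (h1 : Pr n B (gt B.r B.reps i) z) : ∃ l ∈ LL, ∃ T ∈ l, ∃ y : ℕ → G, P0 (n + 1) T y := by
  obtain ⟨r, w, P, cnt, reps⟩ := B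
  obtain ⟨x, h1, h2⟩ := h1
  have h0 : (frc (Nat.add (Nat.succ r) n) fun wp =>
    frc (Nat.shiftLeft wp n) fun W => frc (tab (Nat.succ r) wp (fun k j => Nat.mul 2 (relf r w P k j)) n) fun M =>
      allN (fun i a => Ic.rec (motive := fun _ => Bool) (fun ix Y I => frc (Nat.succ (Nat.mul 2 (gt r reps i))) fun c =>
        icOK n (Nat.succ r) wp c (mul (Nat.succ r) wp W M) LL ix Y I) a) cnt cs) = true := h
  rw [frc_eq, frc_eq, frc_eq] at h0
  obtain ⟨⟨ix, Y, I⟩, h3⟩ := allN_spec h0 i hi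
  have h4 : (frc (Nat.succ (Nat.mul 2 (gt r reps i))) fun c => icOK n (Nat.succ r) (Nat.add (Nat.succ r) n) c
    (mul (Nat.succ r) (Nat.add (Nat.succ r) n) (Nat.shiftLeft (Nat.add (Nat.succ r) n) n) (tab (Nat.succ r)
      (Nat.add (Nat.succ r) n) (fun k j => Nat.mul 2 (relf r w P k j)) n)) LL ix Y I) = true := h3
  rw [frc_eq] at h4
  have hb := (relf_bd r n w P).plus
  exact icOK_spec h1.plus hb h2 (h1.plus.mu hb) h4

/-- Every group of order `2 ^ n` has the presentation of a base without its tails. -/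
def BB (n : ℕ) (LL : List (List Base)) : Prop :=
  ∀ (G : Type u) [Group G], Nat.card G = 2 ^ n → ∃ l ∈ LL, ∃ T ∈ l, ∃ x : ℕ → G, P0 n T x

/-- Every group of order `2 ^ (n + 1)` with a central involution occurs. -/
def AA (n : ℕ) (LL : List (List Base)) : Prop :=
  ∀ (G : Type u) [Group G], Nat.card G = 2 ^ (n + 1) → ∀ z : G, z * z = 1 → z ≠ 1 → (∀ y, z * y = y * z) →
    ∃ l ∈ LL, ∃ T ∈ l, ∃ i, i < T.cnt ∧ Pr n T (gt T.r T.reps i) z

theorem exists_quot {n : ℕ} (hG : Nat.card G = 2 ^ (n + 1)) {z : G} (z2 : z * z = 1) (z1 : z ≠ 1)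
    (zc : ∀ y, z * y = y * z) : ∃ (Q : Type u) (_ : Group Q) (π : G →* Q), Function.Surjective π ∧
      Nat.card Q = 2 ^ n ∧ (∀ g, π g = 1 → g = 1 ∨ g = z) := by
  have ho : orderOf z = 2 := orderOf_eq_prime (by rw [pow_two, z2]) z1
  have : (Subgroup.zpowers z).Normal := ⟨fun a ha g => by
    obtain ⟨k, rfl⟩ := Subgroup.mem_zpowers_iff.1 ha
    have h1 : Commute g (z ^ k) := Commute.zpow_right (zc g).symm k
    rw [h1.eq, mul_inv_cancel_right]
    exact ha⟩
  refine ⟨G ⧸ Subgroup.zpowers z, inferInstance, QuotientGroup.mk' _, QuotientGroup.mk'_surjective _, ?_,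
    fun g hg => ?_⟩
  · have h1 := Subgroup.card_eq_card_quotient_mul_card_subgroup (Subgroup.zpowers z)
    rw [hG, Nat.card_zpowers, ho, pow_succ] at h1
    omega
  · obtain ⟨k, rfl⟩ := Subgroup.mem_zpowers_iff.1 ((QuotientGroup.eq_one_iff g).1 hg)
    have h1 : z ^ (2 : ℤ) = 1 := by rw [zpow_two, z2]
    rcases Int.emod_two_eq_zero_or_one k with h2 | h2
    · left
      rw [← Int.mul_ediv_add_emod k 2, h2, add_zero, zpow_mul, h1, one_zpow]
    · right
      rw [← Int.mul_ediv_add_emod k 2, h2, zpow_add, zpow_mul, h1, one_zpow, one_mul, zpow_one]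

theorem BB.aa {n : ℕ} {LL : List (List Base)} (h : BB.{u} n LL)
    (hc : ∀ l ∈ LL, ∀ T ∈ l, ∃ ce, baseOK n T ce = true) : AA.{u} n LL := by
  intro G _ hG z z2 z1 zc
  obtain ⟨Q, _, π, h1, h2, h3⟩ := exists_quot hG z2 z1 zc
  obtain ⟨l, hl, T, hT, y, h4, h5⟩ := h Q h2
  obtain ⟨ce, h6⟩ := hc l hl T hT
  obtain ⟨t, x, h7, h8⟩ := h4.lift π h1 z2 zc h3 h5
  exact ⟨l, hl, T, hT, (baseOK_spec h6).2 z1 h7 h8⟩

theorem exists_central {n : ℕ} (hG : Nat.card G = 2 ^ (n + 1)) : ∃ z : G, z * z = 1 ∧ z ≠ 1 ∧ ∀ y, z * y = y * z := by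
  have : Finite G := Nat.finite_of_card_ne_zero (by rw [hG]; exact (Nat.two_pow_pos _).ne')
  have : Nontrivial G := Finite.one_lt_card_iff_nontrivial.1 (by rw [hG]; exact Nat.one_lt_two_pow (by omega))
  have hp : IsPGroup 2 G := IsPGroup.of_card hG
  have := hp.center_nontrivial
  obtain ⟨k, hk, h1⟩ := (hp.to_subgroup (Subgroup.center G)).nontrivial_iff_card.1 inferInstance
  obtain ⟨z, hz⟩ := exists_prime_orderOf_dvd_card' (G := Subgroup.center G) 2 (by
    rw [h1]
    exact dvd_pow_self 2 hk.ne')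
  refine ⟨z, ?_, fun h2 => ?_, fun y => (Subgroup.mem_center_iff.1 z.2 y).symm⟩
  · have h2 := pow_orderOf_eq_one z
    rw [hz, pow_two] at h2
    exact congrArg Subtype.val h2
  · rw [show z = 1 from Subtype.ext h2, orderOf_one] at hz
    cases hz

theorem AA.bb {n : ℕ} {LL LL' : List (List Base)} (h : AA.{u} n LL)
    (hc : ∀ l ∈ LL, ∀ T ∈ l, ∃ cs, isoOK n LL' T cs = true) : BB.{u} (n + 1) LL' := by
  intro G _ hG
  obtain ⟨z, z2, z1, zc⟩ := exists_central hG
  obtain ⟨l, hl, T, hT, i, hi, h1⟩ := h G hG z z2 z1 zc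
  obtain ⟨cs, h2⟩ := hc l hl T hT
  exact isoOK_spec h2 hi h1

theorem bb_zero (T : Base) : BB.{u} 0 [[T]] := by
  intro G _ hG
  have : Subsingleton G := (Nat.card_eq_one_iff_unique.1 hG).1
  exact ⟨_, List.mem_cons_self, T, List.mem_cons_self, fun _ => 1, ⟨mul_one _, fun _ => Subsingleton.elim _ _,
    fun k hk => by omega, fun k hk => by omega⟩, fun H h1 _ g => by rwa [Subsingleton.elim g 1]⟩

/-! ### the interface -/

theorem par_eq (a : ℕ) : ∀ r, Pc.par r a = par r a
  | 0 => rfl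
  | r + 1 => by
    have h1 : Pc.par (r + 1) a = xor (a.testBit r) (Pc.par r a) := rfl
    rw [h1, par_eq a r, par_succ, Bool.xor_comm]

theorem Pr.ext {n : ℕ} {B : Base} {c : ℕ} {z : G} (h : Pr n B c z) (hw : B.r + n ≤ B.w)
    (hG : Nat.card G = 2 ^ (n + 1)) : ∃ x, Pc.Ext z x c B.r n B.w B.rel := by
  obtain ⟨r, w, P, cnt, reps⟩ := B
  obtain ⟨x, h1, h2⟩ := h
  have h3 : ∀ k, k < n → ∀ j, ev r n c z x (relf r w P k j) =
      el (Pc.gens z c r x) (r + k) (Pc.get w P (Pc.tri k j)) := fun k hk j => by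
    have h4 : ∀ i, i < r + k → (relf r w P k j).testBit i = (Pc.get w P (Pc.tri k j)).testBit i := fun i hi => by
      have h5 : i < w := by have : r + n ≤ w := hw; omega
      show Nat.testBit (low (r + k) (P >>> (w * tr k j))) i = _
      rw [low_eq, Nat.testBit_mod_two_pow, Pc.testBit_get, decide_eq_true hi, decide_eq_true h5,
        Nat.testBit_shiftRight, tr_eq]
    rw [← Pc.el_congr _ (r + k) h4, Pc.el_gens h1.z2, par_eq]
    unfold ev
    rw [Pc.el_of_lt x (a := relf r w P k j >>> r) (shiftRight_lt (low_lt (r + k) _)) hk.le]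
    rfl
  have h4 : ∀ i, i < r → Pc.gens z c r x i = zp z (c.testBit i) := fun i hi => if_pos hi
  refine ⟨x, ⟨fun i hi => ?_, fun i hi y => ?_, fun k hk => ?_, fun k hk j hj => ?_⟩, hw, h1.z2, h1.zc, fun y => ?_, hG⟩
  · rw [h4 i hi, ← Pc.zp_xor h1.z2, Bool.xor_self]
    rfl
  · rw [h4 i hi, h1.zp_comm]
  · rw [Pc.gens_add, h1.pw k hk, h3 k hk]
  · rw [Pc.gens_add, Pc.gens_add, h1.cj k hk j hj, h3 k hk]
  · have hm := h1.mu (relf_bd r n w P)
    let H : Submonoid G :=
      { carrier := {y | ∃ A, A < 2 ^ (r + n) ∧ ∃ e, y = ev r n c z x A * zp z e}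
        one_mem' := ⟨0, Nat.two_pow_pos _, false, by rw [(h1.toEv (relf_bd r n w P)).zero]; exact (mul_one _).symm⟩
        mul_mem' := by
          rintro _ _ ⟨A, hA, e, rfl⟩ ⟨B, hB, f, rfl⟩
          refine ⟨_, (hm A hA B hB).1, xor e f, ?_⟩
          rw [← (hm A hA B hB).2, Pc.zp_xor h1.z2, mul_assoc, ← mul_assoc (zp z e), h1.zp_comm e]
          simp only [mul_assoc] }
    obtain ⟨A, hA, e, h5⟩ := h2 H ⟨0, Nat.two_pow_pos _, true, by
        rw [(h1.toEv (relf_bd r n w P)).zero]; exact (one_mul _).symm⟩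
      (fun k hk => ⟨2 ^ (r + k), Nat.pow_lt_pow_right (by norm_num) (Nat.add_lt_add_left hk r), false, by
        rw [ev_gen r hk]; exact (mul_one _).symm⟩) y
    refine ⟨A >>> r, shiftRight_lt hA, ?_⟩
    unfold ev at h5
    rw [mul_assoc, ← Pc.zp_xor h1.z2] at h5
    cases h6 : xor (dot r A c) e
    · rw [h6] at h5
      exact Or.inl (h5.trans (mul_one _))
    · rw [h6] at h5
      exact Or.inr h5

/-- the relations without tails are those of an elementary abelian group -/
noncomputable def elemOK (n : ℕ) (B : Base) : Bool :=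
  allB n fun k => band (Nat.beq (topf B.r B.w B.rel k k) 0)
    (allB k fun j => Nat.beq (topf B.r B.w B.rel k j) (Nat.pow 2 j))

theorem P0.elem {n : ℕ} {B : Base} {x : ℕ → G} (h : P0 n B x) (he : elemOK n B = true) (g : G) : g * g = 1 := by
  obtain ⟨h1, h2⟩ := h
  have h3 : ∀ k, k < n → ∀ j, j < k → x j * x k = x k * x j := fun k hk j hj => by
    have h4 := el_top' x (hj.trans hk) (Nat.two_pow_pos j)
    rw [Nat.zero_xor, Pc.el_nil, mul_one] at h4
    rw [h1.cj k hk j hj, ev_zero, Nat.eq_of_beq_eq_true (allB_spec (band_spec (allB_spec he k hk)).2 j hj)]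
    exact congrArg _ h4
  have h4 : ∀ k, k < n → ∀ j, j < n → x j * x k = x k * x j := fun k hk j hj => by
    rcases Nat.lt_trichotomy j k with h5 | h5 | h5
    · exact h3 k hk j h5
    · rw [h5]
    · exact (h3 j hj k h5).symm
  have h5 : ∀ a : G, (∀ k, k < n → a * x k = x k * a) → ∀ b, a * b = b * a := fun a ha b =>
    h2 (Submonoid.centralizer {a}) (Submonoid.one_mem _) (fun k hk => by
      rintro _ rfl
      exact ha k hk) b a rfl
  have h6 : ∀ a b : G, a * b = b * a := fun a => h5 a fun k hk => (h5 (x k) (fun j hj => h4 j hj k hk) a).symm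
  let H : Submonoid G :=
    { carrier := {y | y * y = 1}
      one_mem' := mul_one _
      mul_mem' := fun {a b} (ha : a * a = 1) (hb : b * b = 1) => by
        show a * b * (a * b) = 1
        rw [mul_assoc, ← mul_assoc b, h6 b a, mul_assoc, hb, mul_one, ha] }
  refine h2 H (mul_one _) (fun k hk => ?_) g
  show x k * x k = 1
  rw [h1.pw k hk, ev_zero, Nat.eq_of_beq_eq_true (band_spec (allB_spec he k hk)).1, Pc.el_nil]

/-- The last step: bases with elementary abelian top are not checked. -/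
theorem BB.has {n : ℕ} {LL : List (List Base)} (h : BB.{u} n LL)
    (hc : ∀ l ∈ LL, ∀ T ∈ l, elemOK n T = true ∨ ∃ ce, baseOK n T ce = true) (hG : Nat.card G = 2 ^ (n + 1)) {z : G}
    (z2 : z * z = 1) (z1 : z ≠ 1) (zc : ∀ y, z * y = y * z) :
    (∀ g : G, g * g = 1 ∨ g * g = z) ∨ ∃ l ∈ LL, ∃ T ∈ l, T.Has n z := by
  obtain ⟨Q, _, π, h1, h2, h3⟩ := exists_quot hG z2 z1 zc
  obtain ⟨l, hl, T, hT, y, h4⟩ := h Q h2
  rcases hc l hl T hT with h6 | ⟨ce, h6⟩
  · exact Or.inl fun g => h3 _ (by rw [map_mul, h4.elem h6])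
  · obtain ⟨t, x, h7, h8⟩ := h4.1.lift π h1 z2 zc h3 h4.2
    obtain ⟨i, hi, h9⟩ := (baseOK_spec h6).2 z1 h7 h8
    rw [gt_eq] at h9
    exact Or.inr ⟨l, hl, T, hT, i, hi, h9.ext (baseOK_spec (G := G) h6).1 hG⟩

end Cfsg.Agent.FS.Gen
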