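import Mathlib.Data.Nat.Bitwise
import Mathlib.Tactic

/-!
# Orbit covers of `F₂^r` by bitsets (helper79, project FS, part A)

Vectors of `F₂^r` are numbers `c < 2 ^ r`; a subset is a number with `2 ^ r` bits.  A shear `(j, l)` is the map
`c ↦ c + ⟨l, c⟩ e_j` (bit `j` of `l` is ignored).  `pull` computes the preimage of a subset under a list of shears,
`rows` the matrix of the list.  `cover_sound`: a property which holds at the seeds and is inherited from `act L c` to
`c` holds everywhere if `cover` says so.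
-/

set_option autoImplicit false

namespace Cfsg.Agent.FS.Gen

/-- `frc n f` is `f n`, but the kernel evaluates `n` first. -/
@[reducible] noncomputable def frc {α : Sort _} (n : ℕ) (f : ℕ → α) : α :=
  Nat.rec (f 0) (fun k _ => f (Nat.succ k)) n

theorem frc_eq {α : Sort _} (n : ℕ) (f : ℕ → α) : frc n f = f n := by
  cases n <;> rfl

/-- parity of the first `n` bits -/
noncomputable def par (n x : ℕ) : Bool := Nat.rec false (fun k b => xor b (x.testBit k)) n

theorem par_succ (n x : ℕ) : par (n + 1) x = xor (par n x) (x.testBit n) := rfl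

theorem par_zero_left (x : ℕ) : par 0 x = false := rfl

theorem par_xor (x y : ℕ) : ∀ n, par n (x ^^^ y) = xor (par n x) (par n y)
  | 0 => rfl
  | n + 1 => by
    rw [par_succ, par_succ, par_succ, par_xor x y n, Nat.testBit_xor]
    cases par n x <;> cases par n y <;> cases x.testBit n <;> cases y.testBit n <;> rfl

theorem par_congr {x y : ℕ} : ∀ n, (∀ k, k < n → x.testBit k = y.testBit k) → par n x = par n y
  | 0, _ => rfl
  | n + 1, h => by
    rw [par_succ, par_succ, h n (Nat.lt_succ_self n), par_congr n fun k hk => h k (Nat.lt_succ_of_lt hk)]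

theorem par_zero : ∀ n, par n 0 = false
  | 0 => rfl
  | n + 1 => by rw [par_succ, par_zero n, Nat.zero_testBit]; rfl

theorem par_two_pow (j : ℕ) : ∀ n, par n (2 ^ j) = decide (j < n)
  | 0 => rfl
  | n + 1 => by
    rw [par_succ, par_two_pow j n, Nat.testBit_two_pow]
    rcases Nat.lt_trichotomy j n with h | h | h
    · simp [h, h.ne, Nat.lt_succ_of_lt h]
    · simp [h]
    · have h1 : ¬ j < n := by omega
      have h2 : ¬ j < n + 1 := by omega
      simp [h1, h2, h.ne']

/-- the scalar product on the first `n` coordinates -/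
noncomputable def dot (n l c : ℕ) : Bool := par n (l &&& c)

theorem dot_xor_left (n l l' c : ℕ) : dot n (l ^^^ l') c = xor (dot n l c) (dot n l' c) := by
  unfold dot
  rw [Nat.and_xor_distrib_right, par_xor]

theorem dot_comm (n l c : ℕ) : dot n l c = dot n c l := by
  unfold dot
  rw [Nat.and_comm]

theorem dot_xor_right (n l c c' : ℕ) : dot n l (c ^^^ c') = xor (dot n l c) (dot n l c') := by
  rw [dot_comm, dot_xor_left, dot_comm n c, dot_comm n c']

theorem dot_zero_left (n c : ℕ) : dot n 0 c = false := by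
  unfold dot
  rw [Nat.zero_and, par_zero]

theorem dot_two_pow {n j : ℕ} (hj : j < n) (c : ℕ) : dot n (2 ^ j) c = c.testBit j := by
  unfold dot
  cases h : c.testBit j
  · rw [← par_zero n]
    refine par_congr n fun k _ => ?_
    rw [Nat.testBit_and, Nat.testBit_two_pow, Nat.zero_testBit]
    by_cases hk : j = k
    · rw [← hk, h, Bool.and_false]
    · simp [hk]
  · rw [show par n (2 ^ j &&& c) = par n (2 ^ j) from par_congr n fun k _ => by
      rw [Nat.testBit_and, Nat.testBit_two_pow]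
      by_cases hk : j = k
      · rw [← hk, h, Bool.and_true]
      · simp [hk], par_two_pow, decide_eq_true hj]

theorem dot_succ (n l c : ℕ) : dot (n + 1) l c = xor (dot n l c) (l.testBit n && c.testBit n) := by
  unfold dot
  rw [par_succ, Nat.testBit_and]

/-- A linear functional on numbers, evaluated by taking the highest bits away: the exclusive or of the `f i`, `i` a
bit of `l` (at most `k` bits). -/
noncomputable def xsum (f : ℕ → ℕ) (k : ℕ) : ℕ → ℕ :=
  Nat.rec (fun _ => 0) (fun _ ih l => Bool.rec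
    (frc (Nat.log2 l) fun i => Nat.xor (f i) (frc (Nat.xor l (Nat.shiftLeft 1 i)) ih)) 0 (Nat.beq l 0)) k

theorem xsum_succ (f : ℕ → ℕ) (k l : ℕ) : xsum f (k + 1) l =
    if l = 0 then 0 else f l.log2 ^^^ xsum f k (l ^^^ 2 ^ l.log2) := by
  show Bool.rec (motive := fun _ => ℕ)
    (frc (Nat.log2 l) fun i => Nat.xor (f i) (frc (Nat.xor l (Nat.shiftLeft 1 i)) (xsum f k))) 0
    (Nat.beq l 0) = _
  by_cases h : l = 0
  · subst h
    rfl
  · rw [if_neg h, (Bool.not_eq_true _).mp (fun h1 => h (Nat.eq_of_beq_eq_true h1)), frc_eq, frc_eq]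
    show Nat.xor _ (xsum f k (Nat.xor l (1 <<< l.log2))) = _
    rw [Nat.one_shiftLeft]
    rfl

theorem xor_log2_lt {l k : ℕ} (h0 : l ≠ 0) (hl : l < 2 ^ (k + 1)) : l ^^^ 2 ^ l.log2 < 2 ^ l.log2 ∧ l.log2 ≤ k := by
  refine ⟨Nat.lt_pow_two_of_testBit _ fun i hi => ?_, Nat.lt_succ_iff.1 ((Nat.log2_lt h0).2 hl)⟩
  rw [Nat.testBit_xor, Nat.testBit_two_pow]
  rcases Nat.eq_or_lt_of_le hi with h | h
  · rw [← h, Nat.testBit_log2 h0]
    simp
  · rw [Nat.testBit_lt_two_pow (Nat.lt_log2_self.trans_le (Nat.pow_le_pow_right (by norm_num) h))]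
    simp [h.ne]

/-- `xsum` against an additive Boolean functional -/
theorem xsum_spec (φ : ℕ → Bool) (φ0 : φ 0 = false) (φx : ∀ a b, φ (a ^^^ b) = xor (φ a) (φ b)) (f : ℕ → ℕ)
    {n c : ℕ} (hf : ∀ i, i < n → φ (f i) = c.testBit i) :
    ∀ k l, k ≤ n → l < 2 ^ k → φ (xsum f k l) = dot n l c
  | 0, l, _, hl => by
    have : l = 0 := by simpa using hl
    rw [this, dot_zero_left]
    exact φ0
  | k + 1, l, hk, hl => by
    rw [xsum_succ]
    by_cases h : l = 0
    · rw [if_pos h, h, dot_zero_left, φ0]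
    · obtain ⟨h1, h2⟩ := xor_log2_lt h hl
      rw [if_neg h, φx, xsum_spec φ φ0 φx f hf k _ (by omega)
        (h1.trans_le (Nat.pow_le_pow_right (by norm_num) h2)), dot_xor_left, dot_two_pow (by omega), hf _ (by omega)]
      cases c.testBit l.log2 <;> cases dot n l c <;> rfl

/-! ### coordinate masks -/

/-- the set of the `c < 2 ^ (i + 1 + k)` with bit `i` -/
noncomputable def cmA (i k : ℕ) : ℕ :=
  Nat.rec (Nat.shiftLeft (Nat.sub (Nat.pow 2 (Nat.pow 2 i)) 1) (Nat.pow 2 i))
    (fun t a => frc a fun a => Nat.lor a (Nat.shiftLeft a (Nat.pow 2 (i + 1 + t)))) k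

theorem cmA_spec (i : ℕ) : ∀ k c, (cmA i k).testBit c = (decide (c < 2 ^ (i + 1 + k)) && c.testBit i)
  | 0, c => by
    show Nat.testBit ((2 ^ 2 ^ i - 1) <<< 2 ^ i) c = _
    rw [Nat.testBit_shiftLeft, Nat.testBit_two_pow_sub_one, Nat.add_zero, pow_succ]
    by_cases h1 : c < 2 ^ i
    · rw [Nat.testBit_lt_two_pow h1]
      simp [Nat.not_le.2 h1]
    · obtain ⟨d, rfl⟩ : ∃ d, c = 2 ^ i + d := ⟨c - 2 ^ i, by omega⟩
      rw [Nat.testBit_two_pow_add_eq, Nat.add_sub_cancel_left]
      by_cases h2 : d < 2 ^ i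
      · rw [Nat.testBit_lt_two_pow h2]
        have : 2 ^ i + d < 2 ^ i * 2 := by omega
        simp [h2, this]
      · have : ¬ 2 ^ i + d < 2 ^ i * 2 := by omega
        simp [h2, this]
  | k + 1, c => by
    have h0 : cmA i (k + 1) = cmA i k ||| cmA i k <<< 2 ^ (i + 1 + k) :=
      frc_eq (cmA i k) fun a => Nat.lor a (Nat.shiftLeft a (Nat.pow 2 (i + 1 + k)))
    rw [h0, Nat.testBit_or, Nat.testBit_shiftLeft, cmA_spec i k, cmA_spec i k, ← Nat.add_assoc, pow_succ]
    by_cases h1 : c < 2 ^ (i + 1 + k)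
    · have : c < 2 ^ (i + 1 + k) * 2 := by omega
      simp [h1, this, Nat.not_le.2 h1]
    · obtain ⟨d, rfl⟩ : ∃ d, c = 2 ^ (i + 1 + k) + d := ⟨c - 2 ^ (i + 1 + k), by omega⟩
      rw [Nat.add_sub_cancel_left, Nat.testBit_two_pow_add_gt (by omega)]
      by_cases h2 : d < 2 ^ (i + 1 + k)
      · have : 2 ^ (i + 1 + k) + d < 2 ^ (i + 1 + k) * 2 := by omega
        simp [h2, this]
      · have : ¬ 2 ^ (i + 1 + k) + d < 2 ^ (i + 1 + k) * 2 := by omega
        simp [h2, this]

/-- the set of the `c < 2 ^ r` with bit `i` -/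
noncomputable def cm (r i : ℕ) : ℕ := cmA i (Nat.sub r (Nat.succ i))

theorem cm_spec {r i c : ℕ} (hi : i < r) (hc : c < 2 ^ r) : (cm r i).testBit c = c.testBit i := by
  unfold cm
  rw [cmA_spec, show i + 1 + Nat.sub r (Nat.succ i) = r from by show i + 1 + (r - (i + 1)) = r; omega,
    decide_eq_true hc, Bool.true_and]

theorem cm_ge {r i c : ℕ} (hi : i < r) (hc : ¬ c < 2 ^ r) : (cm r i).testBit c = false := by
  unfold cm
  rw [cmA_spec, show i + 1 + Nat.sub r (Nat.succ i) = r from by show i + 1 + (r - (i + 1)) = r; omega,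
    decide_eq_false hc, Bool.false_and]

/-! ### shears -/

/-- A shear is the number `32 * l + j`. -/
def shJ (r s : ℕ) : ℕ := Nat.mod (Nat.mod s 32) r

/-- the functional of a shear: below `2 ^ r`, without the bit `j` -/
def shL (r s : ℕ) : ℕ := Nat.land (Nat.shiftRight s 5) (Nat.xor (Nat.sub (Nat.pow 2 r) 1) (Nat.pow 2 (shJ r s)))

theorem shJ_lt {r : ℕ} (hr : 0 < r) (s : ℕ) : shJ r s < r := Nat.mod_lt _ hr

theorem shL_testBit (r s i : ℕ) : (shL r s).testBit i =
    ((s >>> 5).testBit i && xor (decide (i < r)) (decide (shJ r s = i))) := by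
  show Nat.testBit ((s >>> 5) &&& ((2 ^ r - 1) ^^^ 2 ^ shJ r s)) i = _
  rw [Nat.testBit_and, Nat.testBit_xor, Nat.testBit_two_pow_sub_one, Nat.testBit_two_pow]

theorem shL_lt {r : ℕ} (hr : 0 < r) (s : ℕ) : shL r s < 2 ^ r := Nat.lt_pow_two_of_testBit _ fun i hi => by
  have := shJ_lt hr s
  rw [shL_testBit, decide_eq_false (show ¬ i < r by omega), decide_eq_false (show ¬ shJ r s = i by omega)]
  simp

theorem shL_J {r : ℕ} (hr : 0 < r) (s : ℕ) : (shL r s).testBit (shJ r s) = false := by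
  rw [shL_testBit, decide_eq_true (shJ_lt hr s), decide_eq_true rfl]
  simp

/-- the action of a shear -/
noncomputable def act1 (r s c : ℕ) : ℕ := bif dot r (shL r s) c then c ^^^ 2 ^ shJ r s else c

/-- the action of a list of shears, first the head -/
noncomputable def act (r : ℕ) (L : List ℕ) : ℕ → ℕ := List.rec (fun c => c) (fun s _ ih c => ih (act1 r s c)) L

theorem act1_lt {r : ℕ} (hr : 0 < r) (s : ℕ) {c : ℕ} (hc : c < 2 ^ r) : act1 r s c < 2 ^ r := by
  unfold act1
  cases dot r (shL r s) c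
  · exact hc
  · exact Nat.xor_lt_two_pow hc (Nat.pow_lt_pow_right (by norm_num) (shJ_lt hr s))

theorem act_lt {r : ℕ} (hr : 0 < r) : ∀ (L : List ℕ) {c : ℕ}, c < 2 ^ r → act r L c < 2 ^ r
  | [], _, hc => hc
  | s :: L, _, hc => act_lt hr L (act1_lt hr s hc)

theorem act1_testBit (r s c i : ℕ) : (act1 r s c).testBit i =
    xor (c.testBit i) (dot r (shL r s) c && decide (shJ r s = i)) := by
  unfold act1
  cases dot r (shL r s) c
  · simp
  · rw [cond_true, Nat.testBit_xor, Nat.testBit_two_pow, Bool.true_and]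

/-- the mask of a shear: the `c` without bit `j` that are moved -/
noncomputable def shK (r s : ℕ) : ℕ :=
  frc (xsum (cm r) r (shL r s)) fun L => Nat.xor L (Nat.land L (cm r (shJ r s)))

theorem shK_spec {r : ℕ} (hr : 0 < r) (s : ℕ) {c : ℕ} (hc : c < 2 ^ r) :
    (shK r s).testBit c = (dot r (shL r s) c && !c.testBit (shJ r s)) := by
  unfold shK
  rw [frc_eq]
  show Nat.testBit (_ ^^^ (_ &&& _)) c = _
  rw [Nat.testBit_xor, Nat.testBit_and, cm_spec (shJ_lt hr s) hc,
    xsum_spec (fun a => a.testBit c) (Nat.zero_testBit c) (fun a b => Nat.testBit_xor a b c) (cm r) (n := r) (c := c)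
      (fun i hi => cm_spec hi hc) r _ le_rfl (shL_lt hr s)]
  cases dot r (shL r s) c <;> cases c.testBit (shJ r s) <;> rfl

theorem add_two_pow_eq_xor {d j : ℕ} (h : d.testBit j = false) : 2 ^ j + d = d ^^^ 2 ^ j := by
  have h1 : d % 2 ^ (j + 1) < 2 ^ j := Nat.lt_pow_two_of_testBit _ fun i hi => by
    rw [Nat.testBit_mod_two_pow]
    rcases Nat.eq_or_lt_of_le hi with h2 | h2
    · rw [← h2, h, Bool.and_false]
    · rw [decide_eq_false (by omega), Bool.false_and]
  have h2 : 2 ^ j + d = 2 ^ (j + 1) * (d / 2 ^ (j + 1)) + (2 ^ j + d % 2 ^ (j + 1)) := by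
    have := Nat.div_add_mod d (2 ^ (j + 1))
    omega
  apply Nat.eq_of_testBit_eq
  intro i
  rw [h2, Nat.testBit_two_pow_mul_add _ (by have h3 : 2 ^ (j + 1) = 2 ^ j * 2 := pow_succ 2 j; omega),
    Nat.testBit_xor, Nat.testBit_two_pow]
  by_cases hi : i < j + 1
  · rw [if_pos hi]
    rcases Nat.eq_or_lt_of_le (Nat.lt_succ_iff.1 hi) with h3 | h3
    · rw [h3, Nat.testBit_two_pow_add_eq, Nat.testBit_lt_two_pow h1, h]
      simp
    · rw [Nat.testBit_two_pow_add_gt h3, Nat.testBit_mod_two_pow, decide_eq_true hi, decide_eq_false h3.ne']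
      simp
  · rw [if_neg hi, Nat.testBit_div_two_pow, decide_eq_false (show ¬ j = i by omega),
      show i - (j + 1) + (j + 1) = i by omega]
    simp

/-- the preimage under one shear, given its mask `K` and `t = 2 ^ j` -/
noncomputable def pull1 (K t X : ℕ) : ℕ :=
  frc (Nat.land (Nat.xor X (Nat.shiftRight X t)) K) fun D => Nat.xor X (Nat.xor D (Nat.shiftLeft D t))

theorem pull1_spec {r : ℕ} (hr : 0 < r) (s X : ℕ) {c : ℕ} (hc : c < 2 ^ r) :
    (pull1 (shK r s) (2 ^ shJ r s) X).testBit c = X.testBit (act1 r s c) := by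
  unfold pull1
  rw [frc_eq]
  show Nat.testBit (X ^^^ (((X ^^^ X >>> _) &&& _) ^^^ ((X ^^^ X >>> _) &&& _) <<< _)) c = _
  set j := shJ r s with hj
  simp only [Nat.testBit_xor, Nat.testBit_and, Nat.testBit_shiftLeft, Nat.testBit_shiftRight]
  rw [shK_spec hr s hc, ← hj]
  unfold act1
  rw [← hj]
  by_cases h1 : c < 2 ^ j
  · rw [decide_eq_false (Nat.not_le.2 h1), Nat.testBit_lt_two_pow h1,
      add_two_pow_eq_xor (Nat.testBit_lt_two_pow h1)]
    cases dot r (shL r s) c <;> simp
  · obtain ⟨d, rfl⟩ : ∃ d, c = 2 ^ j + d := ⟨c - 2 ^ j, by omega⟩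
    rw [Nat.add_sub_cancel_left, shK_spec hr s (show d < 2 ^ r from lt_of_le_of_lt (Nat.le_add_left _ _) hc), ← hj, Nat.testBit_two_pow_add_eq,
      decide_eq_true (show 2 ^ j + d ≥ 2 ^ j by omega)]
    cases h2 : d.testBit j
    · have h3 : dot r (shL r s) (2 ^ j + d) = dot r (shL r s) d := by
        rw [add_two_pow_eq_xor h2, dot_xor_right, dot_comm r _ (2 ^ j), dot_two_pow (shJ_lt hr s), shL_J hr]
        simp
      have h4 : (2 ^ j + d) ^^^ 2 ^ j = d := by
        rw [add_two_pow_eq_xor h2, Nat.xor_assoc, Nat.xor_self, Nat.xor_zero]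
      rw [h3, h4]
      cases dot r (shL r s) d
      · simp
      · cases h5 : X.testBit d <;> cases X.testBit (2 ^ j + d) <;> simp [h5]
    · have h3 : (2 ^ j + d).testBit j = false := by rw [Nat.testBit_two_pow_add_eq, h2]; rfl
      rw [add_two_pow_eq_xor h3]
      cases dot r (shL r s) (2 ^ j + d) <;> simp

/-- the masks of a list of shears -/
noncomputable def prep (r : ℕ) (L : List ℕ) : List (ℕ × ℕ) :=
  List.rec [] (fun s _ ih => (shK r s, Nat.pow 2 (shJ r s)) :: ih) L

/-- the preimage under a prepared list -/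
noncomputable def pull (M : List (ℕ × ℕ)) (X : ℕ) : ℕ :=
  List.rec X (fun p _ ih => frc ih (pull1 p.1 p.2)) M

theorem pull_spec {r : ℕ} (hr : 0 < r) (X : ℕ) :
    ∀ (L : List ℕ) {c : ℕ}, c < 2 ^ r → (pull (prep r L) X).testBit c = X.testBit (act r L c)
  | [], _, _ => rfl
  | s :: L, c, hc => by
    show Nat.testBit (frc (pull (prep r L) X) (pull1 (shK r s) (2 ^ shJ r s))) c = _
    rw [frc_eq, pull1_spec hr s _ hc, pull_spec hr X L (act1_lt hr s hc)]
    rfl

/-! ### rows -/

/-- entry `k` of a packed table with entries of `w` bits -/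
def gt (w T k : ℕ) : ℕ := Nat.land (Nat.shiftRight T (Nat.mul w k)) (Nat.sub (Nat.pow 2 w) 1)

theorem gt_eq (w T k : ℕ) : gt w T k = (T >>> (w * k)) % 2 ^ w := Nat.and_two_pow_sub_one_eq_mod _ _

theorem gt_lt (w T k : ℕ) : gt w T k < 2 ^ w := by
  rw [gt_eq]
  exact Nat.mod_lt _ (Nat.two_pow_pos w)

theorem gt_testBit (w T k i : ℕ) : (gt w T k).testBit i = (decide (i < w) && T.testBit (w * k + i)) := by
  rw [gt_eq, Nat.testBit_mod_two_pow, Nat.testBit_shiftRight]

theorem gt_xor (w S T k : ℕ) : gt w (S ^^^ T) k = gt w S k ^^^ gt w T k := by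
  apply Nat.eq_of_testBit_eq
  intro i
  simp only [Nat.testBit_xor, gt_testBit]
  cases decide (i < w) <;> simp

theorem gt_shiftLeft {w v : ℕ} (hv : v < 2 ^ w) (j k : ℕ) : gt w (v <<< (w * j)) k = if k = j then v else 0 := by
  apply Nat.eq_of_testBit_eq
  intro i
  rw [gt_testBit, Nat.testBit_shiftLeft]
  by_cases hi : i < w
  · rcases Nat.lt_trichotomy k j with h | h | h
    · have h1 : w * (k + 1) ≤ w * j := Nat.mul_le_mul_left w h
      rw [if_neg h.ne, decide_eq_false (show ¬ w * k + i ≥ w * j by rw [Nat.mul_succ] at h1; omega)]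
      simp
    · subst h
      simp [hi]
    · have h1 : w * (j + 1) ≤ w * k := Nat.mul_le_mul_left w h
      rw [if_neg h.ne', Nat.testBit_lt_two_pow (hv.trans_le (Nat.pow_le_pow_right (by norm_num)
        (show w ≤ w * k + i - w * j by rw [Nat.mul_succ] at h1; omega)))]
      simp
  · rw [decide_eq_false hi, Bool.false_and]
    split_ifs
    · exact (Nat.testBit_lt_two_pow (hv.trans_le (Nat.pow_le_pow_right (by norm_num) (by omega)))).symm
    · exact (Nat.zero_testBit i).symm

theorem xsum_lt {f : ℕ → ℕ} {w : ℕ} (hf : ∀ i, f i < 2 ^ w) : ∀ k l, xsum f k l < 2 ^ w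
  | 0, _ => Nat.two_pow_pos w
  | k + 1, l => by
    rw [xsum_succ]
    split_ifs
    · exact Nat.two_pow_pos w
    · exact Nat.xor_lt_two_pow (hf _) (xsum_lt hf k _)

/-- the rows of the matrix of a list of shears applied after the matrix `R` (rows of `w` bits) -/
noncomputable def rows (r w : ℕ) (L : List ℕ) : ℕ → ℕ :=
  List.rec (fun R => R) (fun s _ ih R =>
    frc (Nat.xor R (Nat.shiftLeft (xsum (gt w R) r (shL r s)) (Nat.mul w (shJ r s)))) ih) L

theorem rows_spec {r w : ℕ} (hr : 0 < r) (φ : ℕ → Bool) (φ0 : φ 0 = false)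
    (φx : ∀ a b, φ (a ^^^ b) = xor (φ a) (φ b)) : ∀ (L : List ℕ) (R c : ℕ),
    (∀ i, i < r → φ (gt w R i) = c.testBit i) → ∀ i, i < r → φ (gt w (rows r w L R) i) = (act r L c).testBit i
  | [], _, _, h => h
  | s :: L, R, c, h => by
    have h1 : rows r w (s :: L) R = rows r w L (R ^^^ (xsum (gt w R) r (shL r s)) <<< (w * shJ r s)) := frc_eq _ _
    rw [h1]
    refine rows_spec hr φ φ0 φx L _ (act1 r s c) fun i hi => ?_
    rw [gt_xor, φx, h i hi, gt_shiftLeft (xsum_lt (gt_lt w R) _ _), act1_testBit]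
    by_cases h2 : i = shJ r s
    · rw [if_pos h2, xsum_spec φ φ0 φx _ h r _ le_rfl (shL_lt hr s), decide_eq_true h2.symm, Bool.and_true]
    · rw [if_neg h2, φ0, decide_eq_false (fun h3 => h2 h3.symm), Bool.and_false]

/-! ### the cover -/

/-- the set of the members of a list -/
noncomputable def seeds (R : List ℕ) : ℕ := List.rec 0 (fun c _ ih => frc ih fun X => Nat.lor X (Nat.shiftLeft 1 c)) R

theorem seeds_spec : ∀ (R : List ℕ) {c : ℕ}, (seeds R).testBit c = true → c ∈ R
  | [], c, h => by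
    rw [show seeds [] = 0 from rfl, Nat.zero_testBit] at h
    cases h
  | a :: R, c, h => by
    have h1 : seeds (a :: R) = seeds R ||| 1 <<< a :=
      frc_eq (seeds R) fun X => Nat.lor X (Nat.shiftLeft 1 a)
    rw [h1, Nat.testBit_or, Nat.one_shiftLeft, Nat.testBit_two_pow, Bool.or_eq_true, decide_eq_true_iff] at h
    rcases h with h | h
    · exact List.mem_cons_of_mem _ (seeds_spec R h)
    · exact h ▸ List.mem_cons_self

/-- entry of a list, `[]` if there is none -/
noncomputable def nth {α : Type} (L : List (List α)) : ℕ → List α :=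
  List.rec (fun _ => []) (fun a _ ih k => Nat.rec a (fun k _ => ih k) k) L

theorem nth_map {α β : Type} (f : List α → List β) (hf : f [] = []) :
    ∀ (L : List (List α)) (k : ℕ), nth (L.map f) k = f (nth L k)
  | [], _ => hf.symm
  | _ :: _, 0 => rfl
  | _ :: L, k + 1 => nth_map f hf L k

theorem nth_mem {α : Type} : ∀ (L : List (List α)) (k : ℕ), nth L k = [] ∨ nth L k ∈ L
  | [], _ => Or.inl rfl
  | _ :: _, 0 => Or.inr List.mem_cons_self
  | _ :: L, k + 1 => (nth_mem L k).imp id (List.mem_cons_of_mem _)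

/-- the closure along a schedule -/
noncomputable def grow (M : List (List (ℕ × ℕ))) (sch : List ℕ) : ℕ → ℕ :=
  List.rec (fun X => X) (fun k _ ih X => frc (Nat.lor X (pull (nth M k) X)) ih) sch

/-- the check -/
noncomputable def cover (r : ℕ) (gens : List (List ℕ)) (sch : List ℕ) (X : ℕ) : Bool :=
  Nat.beq (Nat.succ (grow (gens.map (prep r)) sch X)) (Nat.pow 2 (Nat.pow 2 r))

theorem grow_spec {r : ℕ} (hr : 0 < r) {gens : List (List ℕ)} {Q : ℕ → Prop}
    (hQ : ∀ L ∈ gens, ∀ c, c < 2 ^ r → Q (act r L c) → Q c) : ∀ (sch : List ℕ) (X : ℕ),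
    (∀ c, c < 2 ^ r → X.testBit c = true → Q c) →
      ∀ c, c < 2 ^ r → (grow (gens.map (prep r)) sch X).testBit c = true → Q c
  | [], _, h => h
  | k :: sch, X, h => by
    have h1 : grow (gens.map (prep r)) (k :: sch) X =
      grow (gens.map (prep r)) sch (X ||| pull (nth (gens.map (prep r)) k) X) := frc_eq _ _
    rw [h1]
    refine grow_spec hr hQ sch _ fun c hc h2 => ?_
    rw [Nat.testBit_or, Bool.or_eq_true, nth_map (prep r) rfl, pull_spec hr X _ hc] at h2
    rcases h2 with h2 | h2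
    · exact h c hc h2
    · rcases nth_mem gens k with h3 | h3
      · rw [h3] at h2
        exact h c hc h2
      · exact hQ _ h3 c hc (h _ (act_lt hr _ hc) h2)

theorem cover_sound {r : ℕ} (hr : 0 < r) {gens : List (List ℕ)} {sch : List ℕ} {X : ℕ}
    (h : cover r gens sch X = true) {Q : ℕ → Prop} (hR : ∀ c, c < 2 ^ r → X.testBit c = true → Q c)
    (hQ : ∀ L ∈ gens, ∀ c, c < 2 ^ r → Q (act r L c) → Q c) : ∀ c, c < 2 ^ r → Q c := by
  intro c hc
  refine grow_spec hr hQ sch X hR c hc ?_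
  have h1 : grow (gens.map (prep r)) sch X + 1 = 2 ^ 2 ^ r := Nat.eq_of_beq_eq_true h
  rw [show grow (gens.map (prep r)) sch X = 2 ^ 2 ^ r - 1 by omega, Nat.testBit_two_pow_sub_one, decide_eq_true hc]

end Cfsg.Agent.FS.Gen
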