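import Cfsg.Agent.FS.Gen.K5
import Cfsg.Agent.FS.Gen.K6
import Cfsg.Agent.FS.Gen.J6a
import Cfsg.Agent.FS.Gen.J6b
import Cfsg.Agent.FS.Gen.J6c
import Cfsg.Agent.FS.Gen.J6d
import Cfsg.Agent.FS.Gen.J6e

/-! Part A for the groups of order at most 128 (generated; helper79, project FS, part A) -/

set_option autoImplicit false
set_option maxRecDepth 100000

namespace Cfsg.Agent.FS.Gen

universe u

theorem k6 : ∀ l ∈ L6, ∀ T ∈ l, ∃ ce, baseOK 6 T ce = true :=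
  fa_cons (all2_spec k6_0) <|
  fa_cons (all2_spec k6_1) <|
  fa_cons (all2_spec k6_2) <|
  fa_cons (all2_spec k6_3) <|
  fa_cons (all2_spec k6_4) <|
  fa_cons (all2_spec k6_5) <|
  fa_cons (all2_spec k6_6) <|
  fa_cons (all2_spec k6_7) <|
  fa_cons (all2_spec k6_8) <|
  fa_cons (all2_spec k6_9) <|
  fa_cons (all2_spec k6_10) <|
  fa_cons (all2_spec k6_11) <|
  fa_cons (all2_spec k6_12) <|
  fa_cons (all2_spec k6_13) <|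
  fa_cons (all2_spec k6_14) <|
  fa_cons (all2_spec k6_15) <|
  fa_cons (all2_spec k6_16) <|
  fa_cons (all2_spec k6_17) <|
  List.forall_mem_nil _

theorem j6 : ∀ l ∈ L6, ∀ T ∈ l, ∃ cs, isoOK 6 L7 T cs = true :=
  fa_cons (all2_spec j6_0) <|
  fa_cons (all2_spec j6_1) <|
  fa_cons (all2_spec j6_2) <|
  fa_cons (all2_spec j6_3) <|
  fa_cons (all2_spec j6_4) <|
  fa_cons (all2_spec j6_5) <|
  fa_cons (all2_spec j6_6) <|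
  fa_cons (all2_spec j6_7) <|
  fa_cons (all2_spec j6_8) <|
  fa_cons (all2_spec j6_9) <|
  fa_cons (all2_spec j6_10) <|
  fa_cons (all2_spec j6_11) <|
  fa_cons (all2_spec j6_12) <|
  fa_cons (all2_spec j6_13) <|
  fa_cons (all2_spec j6_14) <|
  fa_cons (all2_spec j6_15) <|
  fa_cons (all2_spec j6_16) <|
  fa_cons (all2_spec j6_17) <|
  List.forall_mem_nil _

theorem bb7 : BB.{u} 7 L7 := (bb6.aa k6).bb j6

variable {G : Type u} [Group G] {z : G}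

theorem BB.has' {n : ℕ} {LL : List (List Pc.Base)} (h : BB.{u} n LL)
    (hc : ∀ l ∈ LL, ∀ T ∈ l, ∃ ce, baseOK n T ce = true) (hG : Nat.card G = 2 ^ (n + 1))
    (z2 : z * z = 1) (z1 : z ≠ 1) (zc : ∀ y, z * y = y * z) : ∃ l ∈ LL, ∃ T ∈ l, T.Has n z := by
  obtain ⟨l, hl, T, hT, i, hi, h1⟩ := h.aa hc G hG z z2 z1 zc
  obtain ⟨ce, h2⟩ := hc l hl T hT
  rw [gt_eq] at h1
  exact ⟨l, hl, T, hT, i, hi, h1.ext (baseOK_spec (G := G) h2).1 hG⟩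

theorem has0 (hG : Nat.card G = 2 ^ (0 + 1)) (z2 : z * z = 1) (z1 : z ≠ 1) (zc : ∀ y, z * y = y * z) :
    ∃ l ∈ L0, ∃ T ∈ l, T.Has 0 z := bb0.has' k0 hG z2 z1 zc

theorem has1 (hG : Nat.card G = 2 ^ (1 + 1)) (z2 : z * z = 1) (z1 : z ≠ 1) (zc : ∀ y, z * y = y * z) :
    ∃ l ∈ L1, ∃ T ∈ l, T.Has 1 z := bb1.has' k1 hG z2 z1 zc

theorem has2 (hG : Nat.card G = 2 ^ (2 + 1)) (z2 : z * z = 1) (z1 : z ≠ 1) (zc : ∀ y, z * y = y * z) :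
    ∃ l ∈ L2, ∃ T ∈ l, T.Has 2 z := bb2.has' k2 hG z2 z1 zc

theorem has3 (hG : Nat.card G = 2 ^ (3 + 1)) (z2 : z * z = 1) (z1 : z ≠ 1) (zc : ∀ y, z * y = y * z) :
    ∃ l ∈ L3, ∃ T ∈ l, T.Has 3 z := bb3.has' k3 hG z2 z1 zc

theorem has4 (hG : Nat.card G = 2 ^ (4 + 1)) (z2 : z * z = 1) (z1 : z ≠ 1) (zc : ∀ y, z * y = y * z) :
    ∃ l ∈ L4, ∃ T ∈ l, T.Has 4 z := bb4.has' k4 hG z2 z1 zc

theorem has5 (hG : Nat.card G = 2 ^ (5 + 1)) (z2 : z * z = 1) (z1 : z ≠ 1) (zc : ∀ y, z * y = y * z) :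
    ∃ l ∈ L5, ∃ T ∈ l, T.Has 5 z := bb5.has' k5 hG z2 z1 zc

theorem has6 (hG : Nat.card G = 2 ^ (6 + 1)) (z2 : z * z = 1) (z1 : z ≠ 1) (zc : ∀ y, z * y = y * z) :
    ∃ l ∈ L6, ∃ T ∈ l, T.Has 6 z := bb6.has' k6 hG z2 z1 zc


end Cfsg.Agent.FS.Gen
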