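import Cfsg.Agent.FS.Gen.Has6
import Cfsg.Agent.FS.Gen.K7a
import Cfsg.Agent.FS.Gen.K7b
import Cfsg.Agent.FS.Gen.K7c
import Cfsg.Agent.FS.Gen.K7d
import Cfsg.Agent.FS.Gen.K7e
import Cfsg.Agent.FS.Gen.K7f
import Cfsg.Agent.FS.Gen.K7g
import Cfsg.Agent.FS.Gen.K7h
import Cfsg.Agent.FS.Gen.K7i
import Cfsg.Agent.FS.Gen.K7j
import Cfsg.Agent.FS.Gen.K7k
import Cfsg.Agent.FS.Gen.K7l
import Cfsg.Agent.FS.Gen.K7m
import Cfsg.Agent.FS.Gen.K7n
import Cfsg.Agent.FS.Gen.K7o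
import Cfsg.Agent.FS.Gen.K7p
import Cfsg.Agent.FS.Gen.K7q

/-! Part A for the groups of order 256 (generated; helper79, project FS, part A) -/

set_option autoImplicit false
set_option maxRecDepth 100000

namespace Cfsg.Agent.FS.Gen

universe u

theorem e7 : allL (elemOK 7) b7_0 = true := by decide +kernel

theorem k7 : ∀ l ∈ L7, ∀ T ∈ l, elemOK 7 T = true ∨ ∃ ce, baseOK 7 T ce = true :=
  fa_cons (fun T h => Or.inl (allL_spec e7 T h)) <|
  fa_cons (fun T h => Or.inr (all2_spec k7_1 T h)) <|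
  fa_cons (fun T h => Or.inr (all2_spec k7_2 T h)) <|
  fa_cons (fun T h => Or.inr (all2_spec k7_3 T h)) <|
  fa_cons (fun T h => Or.inr (all2_spec k7_4 T h)) <|
  fa_cons (fun T h => Or.inr (all2_spec k7_5 T h)) <|
  fa_cons (fun T h => Or.inr (all2_spec k7_6 T h)) <|
  fa_cons (fun T h => Or.inr (all2_spec k7_7 T h)) <|
  fa_cons (fun T h => Or.inr (all2_spec k7_8 T h)) <|
  fa_cons (fun T h => Or.inr (all2_spec k7_9 T h)) <|
  fa_cons (fun T h => Or.inr (all2_spec k7_10 T h)) <|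
  fa_cons (fun T h => Or.inr (all2_spec k7_11 T h)) <|
  fa_cons (fun T h => Or.inr (all2_spec k7_12 T h)) <|
  fa_cons (fun T h => Or.inr (all2_spec k7_13 T h)) <|
  fa_cons (fun T h => Or.inr (all2_spec k7_14 T h)) <|
  fa_cons (fun T h => Or.inr (all2_spec k7_15 T h)) <|
  fa_cons (fun T h => Or.inr (all2_spec k7_16 T h)) <|
  fa_cons (fun T h => Or.inr (all2_spec k7_17 T h)) <|
  fa_cons (fun T h => Or.inr (all2_spec k7_18 T h)) <|
  fa_cons (fun T h => Or.inr (all2_spec k7_19 T h)) <|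
  fa_cons (fun T h => Or.inr (all2_spec k7_20 T h)) <|
  fa_cons (fun T h => Or.inr (all2_spec k7_21 T h)) <|
  fa_cons (fun T h => Or.inr (all2_spec k7_22 T h)) <|
  fa_cons (fun T h => Or.inr (all2_spec k7_23 T h)) <|
  fa_cons (fun T h => Or.inr (all2_spec k7_24 T h)) <|
  fa_cons (fun T h => Or.inr (all2_spec k7_25 T h)) <|
  fa_cons (fun T h => Or.inr (all2_spec k7_26 T h)) <|
  fa_cons (fun T h => Or.inr (all2_spec k7_27 T h)) <|
  fa_cons (fun T h => Or.inr (all2_spec k7_28 T h)) <|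
  fa_cons (fun T h => Or.inr (all2_spec k7_29 T h)) <|
  fa_cons (fun T h => Or.inr (all2_spec k7_30 T h)) <|
  fa_cons (fun T h => Or.inr (all2_spec k7_31 T h)) <|
  fa_cons (fun T h => Or.inr (all2_spec k7_32 T h)) <|
  fa_cons (fun T h => Or.inr (all2_spec k7_33 T h)) <|
  fa_cons (fun T h => Or.inr (all2_spec k7_34 T h)) <|
  fa_cons (fun T h => Or.inr (all2_spec k7_35 T h)) <|
  fa_cons (fun T h => Or.inr (all2_spec k7_36 T h)) <|
  fa_cons (fun T h => Or.inr (all2_spec k7_37 T h)) <|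
  fa_cons (fun T h => Or.inr (all2_spec k7_38 T h)) <|
  fa_cons (fun T h => Or.inr (all2_spec k7_39 T h)) <|
  fa_cons (fun T h => Or.inr (all2_spec k7_40 T h)) <|
  fa_cons (fun T h => Or.inr (all2_spec k7_41 T h)) <|
  fa_cons (fun T h => Or.inr (all2_spec k7_42 T h)) <|
  fa_cons (fun T h => Or.inr (all2_spec k7_43 T h)) <|
  fa_cons (fun T h => Or.inr (all2_spec k7_44 T h)) <|
  fa_cons (fun T h => Or.inr (all2_spec k7_45 T h)) <|
  fa_cons (fun T h => Or.inr (all2_spec k7_46 T h)) <|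
  fa_cons (fun T h => Or.inr (all2_spec k7_47 T h)) <|
  fa_cons (fun T h => Or.inr (all2_spec k7_48 T h)) <|
  fa_cons (fun T h => Or.inr (all2_spec k7_49 T h)) <|
  fa_cons (fun T h => Or.inr (all2_spec k7_50 T h)) <|
  fa_cons (fun T h => Or.inr (all2_spec k7_51 T h)) <|
  fa_cons (fun T h => Or.inr (all2_spec k7_52 T h)) <|
  fa_cons (fun T h => Or.inr (all2_spec k7_53 T h)) <|
  fa_cons (fun T h => Or.inr (all2_spec k7_54 T h)) <|
  fa_cons (fun T h => Or.inr (all2_spec k7_55 T h)) <|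
  fa_cons (fun T h => Or.inr (all2_spec k7_56 T h)) <|
  fa_cons (fun T h => Or.inr (all2_spec k7_57 T h)) <|
  fa_cons (fun T h => Or.inr (all2_spec k7_58 T h)) <|
  fa_cons (fun T h => Or.inr (all2_spec k7_59 T h)) <|
  fa_cons (fun T h => Or.inr (all2_spec k7_60 T h)) <|
  fa_cons (fun T h => Or.inr (all2_spec k7_61 T h)) <|
  fa_cons (fun T h => Or.inr (all2_spec k7_62 T h)) <|
  fa_cons (fun T h => Or.inr (all2_spec k7_63 T h)) <|
  fa_cons (fun T h => Or.inr (all2_spec k7_64 T h)) <|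
  fa_cons (fun T h => Or.inr (all2_spec k7_65 T h)) <|
  fa_cons (fun T h => Or.inr (all2_spec k7_66 T h)) <|
  fa_cons (fun T h => Or.inr (all2_spec k7_67 T h)) <|
  fa_cons (fun T h => Or.inr (all2_spec k7_68 T h)) <|
  fa_cons (fun T h => Or.inr (all2_spec k7_69 T h)) <|
  fa_cons (fun T h => Or.inr (all2_spec k7_70 T h)) <|
  fa_cons (fun T h => Or.inr (all2_spec k7_71 T h)) <|
  fa_cons (fun T h => Or.inr (all2_spec k7_72 T h)) <|
  fa_cons (fun T h => Or.inr (all2_spec k7_73 T h)) <|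
  fa_cons (fun T h => Or.inr (all2_spec k7_74 T h)) <|
  fa_cons (fun T h => Or.inr (all2_spec k7_75 T h)) <|
  fa_cons (fun T h => Or.inr (all2_spec k7_76 T h)) <|
  fa_cons (fun T h => Or.inr (all2_spec k7_77 T h)) <|
  fa_cons (fun T h => Or.inr (all2_spec k7_78 T h)) <|
  fa_cons (fun T h => Or.inr (all2_spec k7_79 T h)) <|
  fa_cons (fun T h => Or.inr (all2_spec k7_80 T h)) <|
  fa_cons (fun T h => Or.inr (all2_spec k7_81 T h)) <|
  fa_cons (fun T h => Or.inr (all2_spec k7_82 T h)) <|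
  List.forall_mem_nil _

/-- **Part A for the groups of order 256.** -/
theorem has7 {G : Type u} [Group G] {z : G} (hG : Nat.card G = 2 ^ (7 + 1)) (z2 : z * z = 1) (z1 : z ≠ 1)
    (zc : ∀ y, z * y = y * z) : (∀ g : G, g * g = 1 ∨ g * g = z) ∨ ∃ l ∈ L7, ∃ T ∈ l, T.Has 7 z :=
  bb7.has k7 hG z2 z1 zc

end Cfsg.Agent.FS.Gen
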