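import Cfsg.Agent.FS.Gen.L7a
import Cfsg.Agent.FS.Gen.L7b
import Cfsg.Agent.FS.Gen.L7c
import Cfsg.Agent.FS.Gen.L7d

/-! The groups of order 128 as bases (generated; helper79, project FS, part A) -/

set_option autoImplicit false
set_option maxRecDepth 100000

namespace Cfsg.Agent.FS.Gen

noncomputable def L7 : List (List Pc.Base) := [b7_0, b7_1, b7_2, b7_3, b7_4, b7_5, b7_6, b7_7, b7_8, b7_9, b7_10, b7_11, b7_12, b7_13, b7_14, b7_15, b7_16, b7_17, b7_18, b7_19, b7_20, b7_21, b7_22, b7_23, b7_24, b7_25, b7_26, b7_27, b7_28, b7_29, b7_30, b7_31, b7_32, b7_33, b7_34, b7_35, b7_36, b7_37, b7_38, b7_39, b7_40, b7_41, b7_42, b7_43, b7_44, b7_45, b7_46, b7_47, b7_48, b7_49, b7_50, b7_51, b7_52, b7_53, b7_54, b7_55, b7_56, b7_57, b7_58, b7_59, b7_60, b7_61, b7_62, b7_63, b7_64, b7_65, b7_66, b7_67, b7_68, b7_69, b7_70, b7_71, b7_72, b7_73, b7_74, b7_75, b7_76, b7_77, b7_78, b7_79, b7_80, b7_81,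 b7_82]

end Cfsg.Agent.FS.Gen
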