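import Cfsg.Agent.FS.Gen.Tab
import Cfsg.Agent.FS.Pc.Ext

/-!
# Presentations with a class of tails, change of generators, lifting (helper79, project FS, part A)

`Rel r n R c z x`: the relations `R` hold for `x`, the tail `i` read as `z ^ c_i`.  `homR`: a check that new generators
satisfy other relations.  `Rel.lift`: generators of `G / ⟨z⟩` lift to the presentation with one tail per relation.
-/

set_option autoImplicit false

namespace Cfsg.Agent.FS.Gen

open Pc (el zp)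

/-- bounded universal quantifier -/
noncomputable def allB (N : ℕ) (p : ℕ → Bool) : Bool := Nat.rec true (fun k r => Bool.rec false r (p k)) N

theorem allB_spec {p : ℕ → Bool} : ∀ {N : ℕ}, allB N p = true → ∀ k, k < N → p k = true
  | 0, _, _, hk => by omega
  | N + 1, h, k, hk => by
    have h1 : Bool.rec (motive := fun _ => Bool) false (allB N p) (p N) = true := h
    cases h2 : p N
    · rw [h2] at h1
      cases h1
    · rw [h2] at h1
      rcases Nat.lt_succ_iff_lt_or_eq.1 hk with h3 | h3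
      · exact allB_spec h1 k h3
      · rw [h3, h2]

theorem blt_lt {a b : ℕ} (h : Nat.blt a b = true) : a < b := Eq.mp Nat.blt_eq h

theorem exists_bits (f : ℕ → Bool) : ∀ r, ∃ c, c < 2 ^ r ∧ ∀ i, i < r → c.testBit i = f i
  | 0 => ⟨0, Nat.two_pow_pos 0, fun i hi => by omega⟩
  | r + 1 => by
    obtain ⟨c, h1, h2⟩ := exists_bits f r
    have h0 : 2 ^ r < 2 ^ (r + 1) := Nat.pow_lt_pow_right (by norm_num) (Nat.lt_succ_self r)
    cases h : f r
    · refine ⟨c, h1.trans h0, fun i hi => ?_⟩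
      rcases Nat.lt_succ_iff_lt_or_eq.1 hi with h3 | h3
      · exact h2 i h3
      · rw [h3, h, Nat.testBit_lt_two_pow h1]
    · refine ⟨c ^^^ 2 ^ r, Nat.xor_lt_two_pow (h1.trans h0) h0, fun i hi => ?_⟩
      rw [Nat.testBit_xor, Nat.testBit_two_pow]
      rcases Nat.lt_succ_iff_lt_or_eq.1 hi with h3 | h3
      · rw [h2 i h3, decide_eq_false h3.ne', Bool.xor_false]
      · rw [h3, h, Nat.testBit_lt_two_pow h1, decide_eq_true rfl]
        rfl

theorem dot_congr {r a b : ℕ} (c : ℕ) (h : ∀ i, i < r → a.testBit i = b.testBit i) : dot r a c = dot r b c :=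
  par_congr r fun i hi => by rw [Nat.testBit_and, Nat.testBit_and, h i hi]

theorem dot_low (r a c : ℕ) : dot r (low r a) c = dot r a c :=
  dot_congr c fun i hi => by rw [low_eq, Nat.testBit_mod_two_pow, decide_eq_true hi, Bool.true_and]

theorem dot_shiftLeft (r a c : ℕ) : dot r (a <<< r) c = false := by
  rw [← dot_zero_left r c]
  exact dot_congr c fun i hi => by
    rw [Nat.testBit_shiftLeft, decide_eq_false (by omega), Bool.false_and, Nat.zero_testBit]

theorem dot_double (a c : ℕ) : ∀ r, dot (r + 1) (2 * a) (2 * c + 1) = dot r a c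
  | 0 => by
    rw [dot_succ, Nat.testBit_zero, Nat.mul_mod_right]
    rfl
  | r + 1 => by
    rw [dot_succ, dot_double a c r, dot_succ, Nat.testBit_succ, Nat.testBit_succ,
      show 2 * a / 2 = a by omega, show (2 * c + 1) / 2 = c by omega]

/-- the parity of `d &&& c` -/
noncomputable def pty (r d c : ℕ) : ℕ := xsum (fun _ => 1) r (Nat.land d c)

theorem pty_spec {r d : ℕ} (hd : d < 2 ^ r) (c : ℕ) : (pty r d c).testBit 0 = dot r d c := by
  show Nat.testBit (xsum (fun _ => 1) r (d &&& c)) 0 = _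
  rw [xsum_spec (fun a => a.testBit 0) (Nat.zero_testBit 0) (fun a b => Nat.testBit_xor a b 0) (fun _ => 1)
    (n := r) (c := 2 ^ r - 1) (fun i hi => by rw [Nat.testBit_two_pow_sub_one, decide_eq_true hi]; rfl) r _ le_rfl
    (Nat.lt_of_le_of_lt Nat.and_le_left hd)]
  exact par_congr r fun i hi => by
    rw [Nat.testBit_and, Nat.testBit_two_pow_sub_one, decide_eq_true hi, Bool.and_true]

/-- index of a relation -/
def tr (k j : ℕ) : ℕ := Nat.add (Nat.div (Nat.mul k (Nat.succ k)) 2) j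

theorem tr_eq (k j : ℕ) : tr k j = Pc.tri k j := rfl

theorem tr_succ (k : ℕ) : tr (k + 1) 0 = tr k k + 1 := by
  show (k + 1) * (k + 1 + 1) / 2 + 0 = k * (k + 1) / 2 + k + 1
  rw [show (k + 1) * (k + 1 + 1) = k * (k + 1) + 2 * (k + 1) by ring, Nat.add_mul_div_left _ _ (by norm_num)]
  omega

theorem tr_add (k j : ℕ) : tr k j = tr k 0 + j := rfl

theorem tr_lt {k j : ℕ} (hj : j ≤ k) {n : ℕ} (hn : k < n) : tr k j < tr n 0 := by
  induction n, hn using Nat.le_induction with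
  | base => rw [tr_succ, tr_add k j, tr_add k k]; omega
  | succ n hn ih => rw [tr_succ, tr_add n n]; omega

theorem tr_inj {k j k' j' : ℕ} (hj : j ≤ k) (hj' : j' ≤ k') (h : tr k j = tr k' j') : k = k' ∧ j = j' := by
  rcases Nat.lt_trichotomy k k' with h1 | h1 | h1
  · have := tr_lt hj h1
    rw [tr_add k'] at h
    omega
  · subst h1
    rw [tr_add k, tr_add k j'] at h
    omega
  · have := tr_lt hj' h1
    rw [tr_add k] at h
    omega

variable {G : Type*} [Group G]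

theorem el_top' (x : ℕ → G) {n k a : ℕ} (hk : k < n) (ha : a < 2 ^ k) : el x n (a ^^^ 2 ^ k) = x k * el x n a := by
  have h0 : 2 ^ k < 2 ^ (k + 1) := Nat.pow_lt_pow_right (by norm_num) (Nat.lt_succ_self k)
  rw [Pc.el_of_lt x (Nat.xor_lt_two_pow (ha.trans h0) h0) hk, Pc.el_top x ha, Pc.el_of_lt x ha hk.le]

theorem el_mem {x : ℕ → G} {A : Submonoid G} (a : ℕ) : ∀ n, (∀ i, i < n → x i ∈ A) → el x n a ∈ A
  | 0, _ => A.one_mem
  | n + 1, h => by
    rw [Pc.el_succ]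
    refine A.mul_mem ?_ (el_mem a n fun i hi => h i (Nat.lt_succ_of_lt hi))
    cases a.testBit n
    · exact A.one_mem
    · exact h n (Nat.lt_succ_self _)

theorem zp_mem {z : G} {A : Submonoid G} (h : z ∈ A) (b : Bool) : zp z b ∈ A := by
  cases b
  · exact A.one_mem
  · exact h

/-- the value of a word -/
noncomputable def ev (r n c : ℕ) (z : G) (x : ℕ → G) (A : ℕ) : G := el x n (A >>> r) * zp z (dot r A c)

theorem ev_tail {r t : ℕ} (ht : t < 2 ^ r) (n c : ℕ) (z : G) (x : ℕ → G) : ev r n c z x t = zp z (dot r t c) := by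
  unfold ev
  rw [Nat.shiftRight_eq_zero t r ht, Pc.el_nil, one_mul]

theorem ev_gen (r : ℕ) {n k : ℕ} (hk : k < n) (c : ℕ) (z : G) (x : ℕ → G) : ev r n c z x (2 ^ (r + k)) = x k := by
  unfold ev
  have h1 : 2 ^ (r + k) = (2 ^ k) <<< r := by rw [Nat.shiftLeft_eq, ← pow_add, Nat.add_comm]
  have h2 := el_top' x hk (Nat.two_pow_pos k)
  rw [Nat.zero_xor, Pc.el_nil, mul_one] at h2
  rw [h1, dot_shiftLeft, Nat.shiftLeft_shiftRight, h2]
  exact mul_one _

theorem ev_zero (n c : ℕ) (z : G) (x : ℕ → G) (A : ℕ) : ev 0 n c z x A = el x n A := mul_one _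

theorem ev_mem {r n c : ℕ} {z : G} {x : ℕ → G} {H : Submonoid G} (hz : z ∈ H) (hx : ∀ k, k < n → x k ∈ H) (A : ℕ) :
    ev r n c z x A ∈ H := H.mul_mem (el_mem _ n hx) (zp_mem hz _)

/-- The relations `R` hold, with the tail `i` read as `z ^ c_i`. -/
structure Rel (r n : ℕ) (R : ℕ → ℕ → ℕ) (c : ℕ) (z : G) (x : ℕ → G) : Prop where
  z2 : z * z = 1
  zc : ∀ y, z * y = y * z
  pw : ∀ k, k < n → x k * x k = ev r n c z x (R k k)
  cj : ∀ k, k < n → ∀ j, j < k → x j * x k = x k * ev r n c z x (R k j)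

/-- The right sides of the relations lie below the generator. -/
def Bd (r n : ℕ) (R : ℕ → ℕ → ℕ) : Prop := ∀ k, k < n → ∀ j, j ≤ k → R k j < 2 ^ (r + k)

/-- `z` and the `x k` generate. -/
def Gn (n : ℕ) (z : G) (x : ℕ → G) : Prop := ∀ H : Submonoid G, z ∈ H → (∀ k, k < n → x k ∈ H) → ∀ g, g ∈ H

variable {r n : ℕ} {R : ℕ → ℕ → ℕ} {c : ℕ} {z : G} {x : ℕ → G}

theorem Rel.zp_comm (h : Rel r n R c z x) (b : Bool) (g : G) : zp z b * g = g * zp z b := by
  cases b
  · exact (one_mul g).trans (mul_one g).symm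
  · exact h.zc g

theorem Rel.toEv (h : Rel r n R c z x) (hb : Bd r n R) : Ev r n R (ev r n c z x) where
  zero := by rw [ev_tail (Nat.two_pow_pos r), dot_zero_left]; rfl
  top := fun k hk A hA => by
    have h1 : 2 ^ (r + k) = (2 ^ k) <<< r := by rw [Nat.shiftLeft_eq, ← pow_add, Nat.add_comm]
    rw [ev_gen r hk]
    unfold ev
    rw [h1, dot_xor_left, dot_shiftLeft, Bool.xor_false, Nat.shiftRight_xor_distrib, Nat.shiftLeft_shiftRight,
      el_top' x hk (shiftRight_lt hA), mul_assoc]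
  tail := fun t ht A => by
    rw [ev_tail ht]
    unfold ev
    rw [Nat.shiftRight_xor_distrib, Nat.shiftRight_eq_zero t r ht, Nat.xor_zero, dot_xor_left, Pc.zp_xor h.z2,
      mul_assoc]
  cen := fun t ht g => by rw [ev_tail ht, h.zp_comm]
  pw := fun k hk => by rw [ev_gen r hk, h.pw k hk]
  cj := fun k hk j hj => by rw [ev_gen r hk, ev_gen r (hj.trans hk), h.cj k hk j hj]
  bd := hb

/-- other tails with the same values -/
theorem Rel.retail (h : Rel r n R c z x) {r' c' : ℕ} {R' : ℕ → ℕ → ℕ} (h1 : ∀ k j, R' k j >>> r' = R k j >>> r)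
    (h2 : ∀ k j, dot r' (R' k j) c' = dot r (R k j) c) : Rel r' n R' c' z x where
  z2 := h.z2
  zc := h.zc
  pw := fun k hk => by rw [h.pw k hk]; unfold ev; rw [h1, h2]
  cj := fun k hk j hj => by rw [h.cj k hk j hj]; unfold ev; rw [h1, h2]

theorem Rel.plus (h : Rel r n R c z x) : Rel (r + 1) n (fun k j => Nat.mul 2 (R k j)) (2 * c + 1) z x :=
  h.retail (fun k j => by
    show (2 * R k j) >>> (r + 1) = _
    rw [Nat.shiftRight_succ_inside, show 2 * R k j / 2 = R k j by omega]) fun k j => dot_double _ _ r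

theorem Bd.plus (h : Bd r n R) : Bd (r + 1) n (fun k j => Nat.mul 2 (R k j)) := fun k hk j hj => by
  have := h k hk j hj
  show 2 * R k j < _
  rw [show r + 1 + k = r + k + 1 by omega, pow_succ]
  omega

theorem Rel.one (h : Rel 0 n R c z x) : Rel 0 n R 0 1 x where
  z2 := mul_one _
  zc := fun y => (one_mul y).trans (mul_one y).symm
  pw := fun k hk => by rw [h.pw k hk, ev_zero, ev_zero]
  cj := fun k hk j hj => by rw [h.cj k hk j hj, ev_zero, ev_zero]

/-! ### change of generators -/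

/-- `A` times the product of the `Y i`, `i` a bit of `l`, in decreasing order -/
noncomputable def fold (m : ℕ → ℕ → ℕ) (Y : ℕ → ℕ) (k : ℕ) : ℕ → ℕ → ℕ :=
  Nat.rec (fun A _ => A) (fun _ ih A l => Bool.rec
    (frc (Nat.log2 l) fun i => frc (m A (Y i)) fun A' => frc (Nat.xor l (Nat.shiftLeft 1 i)) (ih A')) A
    (Nat.beq l 0)) k

theorem fold_succ (m : ℕ → ℕ → ℕ) (Y : ℕ → ℕ) (k A l : ℕ) : fold m Y (k + 1) A l =
    if l = 0 then A else fold m Y k (m A (Y l.log2)) (l ^^^ 2 ^ l.log2) := by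
  show Bool.rec (motive := fun _ => ℕ)
    (frc (Nat.log2 l) fun i => frc (m A (Y i)) fun A' => frc (Nat.xor l (Nat.shiftLeft 1 i)) (fold m Y k A')) A
    (Nat.beq l 0) = _
  by_cases h : l = 0
  · subst h
    rfl
  · rw [if_neg h, (Bool.not_eq_true _).mp (fun h1 => h (Nat.eq_of_beq_eq_true h1)), frc_eq, frc_eq, frc_eq]
    show fold m Y k _ (Nat.xor l (1 <<< l.log2)) = _
    rw [Nat.one_shiftLeft]
    rfl

theorem fold_spec {N n' : ℕ} {e : ℕ → G} {m : ℕ → ℕ → ℕ} (hm : Mu N e m) {Y : ℕ → ℕ} (hY : ∀ i, Y i < 2 ^ N) :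
    ∀ k A l, k ≤ n' → A < 2 ^ N → l < 2 ^ k →
      fold m Y k A l < 2 ^ N ∧ e (fold m Y k A l) = e A * el (fun i => e (Y i)) n' l
  | 0, A, l, _, hA, hl => by
    obtain rfl : l = 0 := by simpa using hl
    rw [Pc.el_nil, mul_one]
    exact ⟨hA, rfl⟩
  | k + 1, A, l, hk, hA, hl => by
    rw [fold_succ]
    by_cases h : l = 0
    · rw [if_pos h, h, Pc.el_nil, mul_one]
      exact ⟨hA, rfl⟩
    · obtain ⟨h1, h2⟩ := xor_log2_lt h hl
      obtain ⟨h3, h4⟩ := hm A hA _ (hY l.log2)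
      obtain ⟨h5, h6⟩ := fold_spec hm hY k _ _ (show k ≤ n' by omega) h3
        (h1.trans_le (Nat.pow_le_pow_right (by norm_num) h2))
      rw [if_neg h]
      refine ⟨h5, ?_⟩
      rw [h6, ← h4, mul_assoc, ← el_top' (fun i => e (Y i)) (show l.log2 < n' by omega) h1, Nat.xor_assoc,
        Nat.xor_self, Nat.xor_zero]

/-- the difference of the two sides of a relation -/
noncomputable def dif (m : ℕ → ℕ → ℕ) (Y μ : ℕ → ℕ) (r' n' A B v : ℕ) : ℕ :=
  Nat.xor (Nat.xor A (fold m Y n' B (Nat.shiftRight v r'))) (xsum μ r' (low r' v))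

/-- The words `Y` satisfy the relations `R'` with the tails `μ`. -/
noncomputable def homR (m : ℕ → ℕ → ℕ) (Y μ : ℕ → ℕ) (r' n' : ℕ) (R' : ℕ → ℕ → ℕ) (null : ℕ → ℕ → ℕ → Bool) : Bool :=
  allB n' fun k => Bool.rec false
    (allB k fun j => frc (R' k j) fun v => null k j (dif m Y μ r' n' (m (Y j) (Y k)) (Y k) v))
    (frc (R' k k) fun v => null k k (dif m Y μ r' n' (m (Y k) (Y k)) 0 v))

theorem Rel.dif_spec (h : Rel r n R c z x) (hb : Bd r n R) {m : ℕ → ℕ → ℕ} (hm : Mu (r + n) (ev r n c z x) m)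
    {Y μ : ℕ → ℕ} (hY : ∀ i, Y i < 2 ^ (r + n)) (hμ : ∀ i, μ i < 2 ^ r) {r' n' c' : ℕ}
    (hc : ∀ i, i < r' → dot r (μ i) c = c'.testBit i) {A B v : ℕ} (hB : B < 2 ^ (r + n)) (hv : v < 2 ^ (r' + n'))
    (h1 : dif m Y μ r' n' A B v < 2 ^ r) (h2 : zp z (dot r (dif m Y μ r' n' A B v) c) = 1) :
    ev r n c z x A = ev r n c z x B * ev r' n' c' z (fun i => ev r n c z x (Y i)) v := by
  have he := h.toEv hb
  obtain ⟨-, h3⟩ := fold_spec (n' := n') hm hY n' B _ le_rfl hB (shiftRight_lt hv)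
  have h4 : A = (fold m Y n' B (v >>> r') ^^^ xsum μ r' (low r' v)) ^^^ dif m Y μ r' n' A B v := by
    show A = (_ ^^^ _) ^^^ ((A ^^^ fold m Y n' B (v >>> r')) ^^^ xsum μ r' (low r' v))
    apply Nat.eq_of_testBit_eq
    intro i
    simp only [Nat.testBit_xor]
    cases A.testBit i <;> cases (fold m Y n' B (v >>> r')).testBit i <;> cases (xsum μ r' (low r' v)).testBit i <;> rfl
  have h5 := xsum_lt hμ r' (low r' v)
  rw [h4, he.tail _ h1, ev_tail h1, h2, mul_one, he.tail _ h5, h3, ev_tail h5,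
    xsum_spec (fun a => dot r a c) (dot_zero_left r c) (fun a b => dot_xor_left r a b c) μ hc r' _ le_rfl (low_lt _ _),
    dot_low, mul_assoc]
  rfl

theorem Rel.hom (h : Rel r n R c z x) (hb : Bd r n R) {m : ℕ → ℕ → ℕ} (hm : Mu (r + n) (ev r n c z x) m)
    {Y μ : ℕ → ℕ} (hY : ∀ i, Y i < 2 ^ (r + n)) (hμ : ∀ i, μ i < 2 ^ r) {r' n' c' : ℕ}
    (hc : ∀ i, i < r' → dot r (μ i) c = c'.testBit i) {R' : ℕ → ℕ → ℕ} (hb' : Bd r' n' R')
    {null : ℕ → ℕ → ℕ → Bool} (hn : ∀ k j d, null k j d = true → d < 2 ^ r ∧ zp z (dot r d c) = 1)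
    (hh : homR m Y μ r' n' R' null = true) : Rel r' n' R' c' z (fun i => ev r n c z x (Y i)) := by
  have h1 : ∀ k, k < n' → (∀ j, j < k → null k j (dif m Y μ r' n' (m (Y j) (Y k)) (Y k) (R' k j)) = true) ∧
      null k k (dif m Y μ r' n' (m (Y k) (Y k)) 0 (R' k k)) = true := fun k hk => by
    have h2 := allB_spec hh k hk
    rw [frc_eq] at h2
    cases h3 : null k k (dif m Y μ r' n' (m (Y k) (Y k)) 0 (R' k k))
    · rw [h3] at h2
      cases h2
    · rw [h3] at h2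
      refine ⟨fun j hj => ?_, rfl⟩
      have h4 := allB_spec h2 j hj
      rwa [frc_eq] at h4
  have h5 : ∀ k, k < n' → ∀ j, j ≤ k → R' k j < 2 ^ (r' + n') := fun k hk j hj =>
    (hb' k hk j hj).trans (Nat.pow_lt_pow_right (by norm_num) (by omega))
  refine ⟨h.z2, h.zc, fun k hk => ?_, fun k hk j hj => ?_⟩
  · obtain ⟨h6, h7⟩ := hn _ _ _ (h1 k hk).2
    rw [(hm _ (hY k) _ (hY k)).2, h.dif_spec hb hm hY hμ hc (Nat.two_pow_pos _) (h5 k hk k le_rfl) h6 h7,
      (h.toEv hb).zero, one_mul]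
  · obtain ⟨h6, h7⟩ := hn _ _ _ ((h1 k hk).1 j hj)
    rw [(hm _ (hY j) _ (hY k)).2, h.dif_spec hb hm hY hμ hc (hY k) (h5 k hk j hj.le) h6 h7]

/-- The old generators are words in the new ones, up to tails. -/
noncomputable def invs (m : ℕ → ℕ → ℕ) (Y : ℕ → ℕ) (r n n' I : ℕ) : Bool :=
  allB n fun k => Nat.blt (Nat.xor (fold m Y n' 0 (gt n' I k)) (Nat.pow 2 (Nat.add r k))) (Nat.pow 2 r)

theorem Rel.gn (h : Rel r n R c z x) (hb : Bd r n R) {m : ℕ → ℕ → ℕ} (hm : Mu (r + n) (ev r n c z x) m)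
    {Y : ℕ → ℕ} (hY : ∀ i, Y i < 2 ^ (r + n)) {n' I : ℕ} (hi : invs m Y r n n' I = true) (hg : Gn n z x) :
    Gn n' z (fun i => ev r n c z x (Y i)) := by
  intro H hz hy
  refine hg H hz fun k hk => ?_
  have he := h.toEv hb
  have h1 : fold m Y n' 0 (gt n' I k) ^^^ 2 ^ (r + k) < 2 ^ r := blt_lt (allB_spec hi k hk)
  obtain ⟨-, h3⟩ := fold_spec (n' := n') hm hY n' 0 _ le_rfl (Nat.two_pow_pos _) (gt_lt n' I k)
  have h2 := he.tail _ h1 (fold m Y n' 0 (gt n' I k))
  rw [← Nat.xor_assoc, Nat.xor_self, Nat.zero_xor, ev_gen r hk, h3, he.zero, one_mul, ev_tail h1] at h2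
  rw [h2]
  exact H.mul_mem (el_mem _ n' hy) (zp_mem hz _)

theorem Rel.gn_one (h : Rel r n R c z x) (hb : Bd r n R) {m : ℕ → ℕ → ℕ} (hm : Mu (r + n) (ev r n c z x) m)
    {Y : ℕ → ℕ} (hY : ∀ i, Y i < 2 ^ (r + n)) {n' l : ℕ} (hl : l < 2 ^ n') (h1 : fold m Y n' 0 l < 2 ^ r)
    (h2 : dot r (fold m Y n' 0 l) c = true) (hg : Gn n' z (fun i => ev r n c z x (Y i))) :
    Gn n' 1 (fun i => ev r n c z x (Y i)) := by
  intro H _ hy
  refine hg H ?_ hy
  obtain ⟨-, h3⟩ := fold_spec (n' := n') hm hY n' 0 _ le_rfl (Nat.two_pow_pos _) hl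
  rw [ev_tail h1, h2, (h.toEv hb).zero, one_mul] at h3
  rw [show z = zp z true from rfl, h3]
  exact el_mem _ n' hy

/-! ### lifting -/

/-- one tail for every relation -/
def full (m : ℕ) (R : ℕ → ℕ → ℕ) (k j : ℕ) : ℕ := Nat.xor (Nat.shiftLeft (R k j) m) (Nat.pow 2 (tr k j))

theorem Bd.full (h : Bd 0 n R) : Bd (tr n 0) n (full (tr n 0) R) := fun k hk j hj => by
  have h1 := h k hk j hj
  rw [Nat.zero_add] at h1
  exact Nat.xor_lt_two_pow (shiftLeft_lt h1)
    (Nat.pow_lt_pow_right (by norm_num) ((tr_lt hj hk).trans_le (Nat.le_add_right _ _)))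

theorem ev_full {k j : ℕ} (hk : k < n) (hj : j ≤ k) (t : ℕ) (z : G) (x : ℕ → G) :
    ev (tr n 0) n t z x (full (tr n 0) R k j) = el x n (R k j) * zp z (t.testBit (tr k j)) := by
  have h1 := tr_lt hj hk
  show el x n ((R k j <<< tr n 0 ^^^ 2 ^ tr k j) >>> tr n 0) * zp z (dot _ (R k j <<< tr n 0 ^^^ 2 ^ tr k j) t) = _
  rw [Nat.shiftRight_xor_distrib, Nat.shiftLeft_shiftRight,
    Nat.shiftRight_eq_zero _ _ (Nat.pow_lt_pow_right (by norm_num) h1), Nat.xor_zero, dot_xor_left, dot_shiftLeft,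
    dot_two_pow h1, Bool.false_xor]

theorem Rel.lift {Q : Type*} [Group Q] (π : G →* Q) (hπ : Function.Surjective π) (z2 : z * z = 1)
    (zc : ∀ y, z * y = y * z) (hk : ∀ g, π g = 1 → g = 1 ∨ g = z) {y : ℕ → Q} (h : Rel 0 n R 0 1 y)
    (hg : Gn n 1 y) : ∃ t x, Rel (tr n 0) n (full (tr n 0) R) t z x ∧ Gn n z x := by
  classical
  choose x hx using fun i => hπ (y i)
  have h1 : ∀ a b : G, π a = π b → ∃ e, a = b * zp z e := fun a b hab => by
    rcases hk (b⁻¹ * a) (by rw [map_mul, map_inv, hab, inv_mul_cancel]) with h2 | h2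
    · exact ⟨false, by show a = b * 1; rw [← h2, mul_inv_cancel_left]⟩
    · exact ⟨true, by show a = b * z; rw [← h2, mul_inv_cancel_left]⟩
  have h2 : ∀ a, π (el x n a) = el y n a := fun a => by
    rw [Pc.map_el]
    exact Pc.el_congr_g a n fun k _ => hx k
  have h3 : ∀ k j, ∃ e, k < n → j ≤ k →
      x j * x k = (if j = k then 1 else x k) * el x n (R k j) * zp z e := fun k j => by
    by_cases h4 : k < n ∧ j ≤ k
    · refine (h1 _ _ ?_).imp fun e he _ _ => he
      rw [map_mul, map_mul, hx, hx, h2]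
      split_ifs with h5
      · rw [h5, h.pw k h4.1, ev_zero, map_one, one_mul]
      · rw [h.cj k h4.1 j (by omega), ev_zero, hx]
    · exact ⟨false, fun h5 h6 => (h4 ⟨h5, h6⟩).elim⟩
  choose b hb using h3
  obtain ⟨t, -, ht⟩ := exists_bits (fun ρ => decide (∃ k j, j ≤ k ∧ ρ = tr k j ∧ b k j = true)) (tr n 0)
  have h4 : ∀ k, k < n → ∀ j, j ≤ k → t.testBit (tr k j) = b k j := fun k hk j hj => by
    rw [ht _ (tr_lt hj hk)]
    cases h5 : b k j
    · refine decide_eq_false ?_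
      rintro ⟨k', j', h6, h7, h8⟩
      obtain ⟨rfl, rfl⟩ := tr_inj hj h6 h7
      rw [h5] at h8
      cases h8
    · exact decide_eq_true ⟨k, j, hj, rfl, h5⟩
  refine ⟨t, x, ⟨z2, zc, fun k hk => ?_, fun k hk j hj => ?_⟩, fun H hz hH g => ?_⟩
  · rw [ev_full hk le_rfl, h4 k hk k le_rfl, hb k k hk le_rfl, if_pos rfl, one_mul]
  · rw [ev_full hk hj.le, h4 k hk j hj.le, hb k j hk hj.le, if_neg hj.ne, mul_assoc]
  · obtain ⟨a, ha, h5⟩ := hg (H.map π) (Submonoid.one_mem _) (fun k hk => ⟨x k, hH k hk, hx k⟩) (π g)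
    obtain ⟨e, he⟩ := h1 g a h5.symm
    rw [he]
    exact H.mul_mem ha (zp_mem hz e)

end Cfsg.Agent.FS.Gen
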