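import Cfsg.Agent.FS.Gen.Bits

/-!
# Multiplication tables of power-commutator presentations with tails (helper79, project FS, part A)

Words are numbers below `2 ^ (r + n)`: the low `r` bits are central tails, bit `r + k` is the generator `k`, higher
generators come first.  `Ev r n R e` says that `e` evaluates words in a group in which the relations `R` hold;
`tab r w R n` is a table of the products and `Ev.mul_tab` its soundness.
-/

set_option autoImplicit false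

namespace Cfsg.Agent.FS.Gen

/-! ### concatenation -/

theorem cat_lt {A B s t : ℕ} (hA : A < 2 ^ s) (hB : B < 2 ^ t) : A + B <<< s < 2 ^ (s + t) := by
  rw [Nat.shiftLeft_eq, pow_add]
  have h1 : (B + 1) * 2 ^ s ≤ 2 ^ t * 2 ^ s := Nat.mul_le_mul_right _ hB
  rw [Nat.add_mul, Nat.one_mul, Nat.mul_comm (2 ^ t)] at h1
  omega

theorem gt_cat {w A N : ℕ} (hA : A < 2 ^ (w * N)) (B i : ℕ) :
    gt w (A + B <<< (w * N)) i = if i < N then gt w A i else gt w B (i - N) := by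
  apply Nat.eq_of_testBit_eq
  intro j
  rw [gt_testBit, Nat.shiftLeft_eq, Nat.add_comm A, Nat.mul_comm B, Nat.testBit_two_pow_mul_add _ hA]
  by_cases hj : j < w
  · by_cases hi : i < N
    · have h1 : w * (i + 1) ≤ w * N := Nat.mul_le_mul_left w hi
      rw [Nat.mul_succ] at h1
      rw [if_pos hi, if_pos (by omega), gt_testBit]
    · obtain ⟨d, rfl⟩ : ∃ d, i = N + d := ⟨i - N, by omega⟩
      rw [if_neg hi, Nat.mul_add, if_neg (by omega), gt_testBit, Nat.add_sub_cancel_left,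
        show w * N + w * d + j - w * N = w * d + j by omega]
  · rw [decide_eq_false hj, Bool.false_and]
    split_ifs <;> rw [gt_testBit, decide_eq_false hj, Bool.false_and]

theorem gt_zero_of_lt {w A : ℕ} (h : A < 2 ^ w) : gt w A 0 = A := by
  rw [gt_eq, Nat.mul_zero, Nat.shiftRight_zero, Nat.mod_eq_of_lt h]

/-- the concatenation of `f b, …, f (b + 2 ^ j - 1)` with stride `W` -/
noncomputable def tree (W : ℕ) (f : ℕ → ℕ) (j : ℕ) : ℕ → ℕ :=
  Nat.rec f (fun j ih b => Nat.add (ih b) (Nat.shiftLeft (frc (Nat.add b (Nat.pow 2 j)) ih) (Nat.shiftLeft W j))) j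

theorem tree_succ (W : ℕ) (f : ℕ → ℕ) (j b : ℕ) :
    tree W f (j + 1) b = tree W f j b + tree W f j (b + 2 ^ j) <<< (W * 2 ^ j) := by
  show tree W f j b + (frc (b + 2 ^ j) (tree W f j)) <<< (W <<< j) = _
  rw [frc_eq, Nat.shiftLeft_eq W]

theorem tree_spec {W : ℕ} {f : ℕ → ℕ} : ∀ j b, (∀ i, i < 2 ^ j → f (b + i) < 2 ^ W) →
    tree W f j b < 2 ^ (W * 2 ^ j) ∧ ∀ i, i < 2 ^ j → gt W (tree W f j b) i = f (b + i)
  | 0, b, h => by
    have h1 : f b < 2 ^ W := h 0 (by norm_num)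
    refine ⟨by rw [pow_zero, Nat.mul_one]; exact h1, fun i hi => ?_⟩
    obtain rfl : i = 0 := by simpa using hi
    exact gt_zero_of_lt h1
  | j + 1, b, h => by
    have h0 : 2 ^ (j + 1) = 2 ^ j + 2 ^ j := by rw [pow_succ]; omega
    obtain ⟨h1, h2⟩ := tree_spec j b fun i hi => h i (by omega)
    obtain ⟨h3, h4⟩ := tree_spec j (b + 2 ^ j) fun i hi => by rw [Nat.add_assoc]; exact h _ (by omega)
    rw [tree_succ]
    refine ⟨by rw [h0, Nat.mul_add]; exact cat_lt h1 h3, fun i hi => ?_⟩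
    rw [gt_cat h1]
    split_ifs with h5
    · exact h2 i h5
    · rw [h4 _ (by omega), show b + 2 ^ j + (i - 2 ^ j) = b + i by omega]

/-- `2 ^ k` entries `1` with stride `w` -/
noncomputable def ones (w k : ℕ) : ℕ :=
  Nat.rec 1 (fun j a => frc a fun a => Nat.add a (Nat.shiftLeft a (Nat.shiftLeft w j))) k

theorem ones_spec {w t : ℕ} (ht : t < 2 ^ w) : ∀ k,
    t * ones w k < 2 ^ (w * 2 ^ k) ∧ ∀ i, i < 2 ^ k → gt w (t * ones w k) i = t
  | 0 => by
    have h1 : t * ones w 0 = t := Nat.mul_one t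
    rw [h1]
    refine ⟨by rw [pow_zero, Nat.mul_one]; exact ht, fun i hi => ?_⟩
    obtain rfl : i = 0 := by simpa using hi
    exact gt_zero_of_lt ht
  | k + 1 => by
    have h0 : 2 ^ (k + 1) = 2 ^ k + 2 ^ k := by rw [pow_succ]; omega
    have h1 : ones w (k + 1) = ones w k + ones w k <<< (w <<< k) :=
      frc_eq (ones w k) fun a => Nat.add a (Nat.shiftLeft a (Nat.shiftLeft w k))
    have h2 : t * ones w (k + 1) = t * ones w k + (t * ones w k) <<< (w * 2 ^ k) := by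
      rw [h1, Nat.shiftLeft_eq w, Nat.shiftLeft_eq, Nat.shiftLeft_eq, Nat.mul_add, Nat.mul_assoc]
    obtain ⟨h3, h4⟩ := ones_spec ht k
    rw [h2]
    refine ⟨by rw [h0, Nat.mul_add]; exact cat_lt h3 h3, fun i hi => ?_⟩
    rw [gt_cat h3]
    split_ifs with h5
    · exact h4 i h5
    · exact h4 _ (by omega)

/-! ### the table -/

/-- the low `r` bits -/
def low (r A : ℕ) : ℕ := Nat.land A (Nat.sub (Nat.pow 2 r) 1)

theorem low_eq (r A : ℕ) : low r A = A % 2 ^ r := Nat.and_two_pow_sub_one_eq_mod _ _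

theorem low_lt (r A : ℕ) : low r A < 2 ^ r := by
  rw [low_eq]
  exact Nat.mod_lt _ (Nat.two_pow_pos r)

theorem low_xor (r A B : ℕ) : low r (A ^^^ B) = low r A ^^^ low r B := by
  rw [low_eq, low_eq, low_eq, Nat.xor_mod_two_pow]

theorem split_low (r A : ℕ) : A = (A >>> r) <<< r ^^^ low r A := by
  apply Nat.eq_of_testBit_eq
  intro i
  rw [Nat.testBit_xor, Nat.testBit_shiftLeft, low_eq, Nat.testBit_mod_two_pow, Nat.testBit_shiftRight]
  by_cases h : i < r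
  · simp [h, Nat.not_le.2 h]
  · rw [show r + (i - r) = i by omega]
    simp [h, Nat.not_lt.1 h]

theorem shiftRight_lt {r k A : ℕ} (h : A < 2 ^ (r + k)) : A >>> r < 2 ^ k := by
  rw [Nat.shiftRight_eq_div_pow, Nat.div_lt_iff_lt_mul (Nat.two_pow_pos r), ← pow_add, Nat.add_comm]
  exact h

theorem shiftLeft_lt {r k a : ℕ} (h : a < 2 ^ k) : a <<< r < 2 ^ (r + k) := by
  rw [Nat.shiftLeft_eq, pow_add, Nat.mul_comm]
  exact Nat.mul_lt_mul_of_pos_left h (Nat.two_pow_pos r)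

theorem top_shiftLeft {a k : ℕ} (ha : a < 2 ^ k) (r : ℕ) : (2 ^ k + a) <<< r = a <<< r ^^^ 2 ^ (r + k) := by
  rw [add_two_pow_eq_xor (Nat.testBit_lt_two_pow ha), Nat.shiftLeft_xor_distrib, Nat.shiftLeft_eq (2 ^ k), ← pow_add,
    Nat.add_comm k]

/-- the product of two words from the table `M` (entries of `w` bits, rows of `W` bits) -/
noncomputable def mul (r w W M A B : ℕ) : ℕ :=
  Nat.xor (frc (Nat.shiftRight A r) fun a => gt w (gt W M a) (Nat.shiftRight B r)) (low r (Nat.xor A B))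

theorem mul_eq (r w W M A B : ℕ) :
    mul r w W M A B = gt w (gt W M (A >>> r)) (B >>> r) ^^^ low r (A ^^^ B) := by
  unfold mul
  rw [frc_eq]
  rfl

/-- the row of a word -/
noncomputable def rowf (r W M O A : ℕ) : ℕ :=
  Nat.xor (frc (Nat.shiftRight A r) (gt W M)) (Nat.mul (low r A) O)

theorem rowf_eq (r W M O A : ℕ) : rowf r W M O A = gt W M (A >>> r) ^^^ low r A * O := by
  unfold rowf
  rw [frc_eq]
  rfl

/-- the table of the conjugates under the next generator -/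
noncomputable def phi (r w W M : ℕ) (cj : ℕ → ℕ) (k : ℕ) : ℕ :=
  Nat.rec 0 (fun j P => frc P fun P => frc (cj j) fun c => Nat.add P (Nat.shiftLeft
    (tree w (fun y => mul r w W M c (gt w P y)) j 0) (Nat.shiftLeft w j))) k

theorem phi_succ (r w W M : ℕ) (cj : ℕ → ℕ) (j : ℕ) : phi r w W M cj (j + 1) = phi r w W M cj j +
    (tree w (fun y => mul r w W M (cj j) (gt w (phi r w W M cj j) y)) j 0) <<< (w * 2 ^ j) := by
  have h1 : phi r w W M cj (j + 1) = frc (phi r w W M cj j) fun P => frc (cj j) fun c => Nat.add P (Nat.shiftLeft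
    (tree w (fun y => mul r w W M c (gt w P y)) j 0) (Nat.shiftLeft w j)) := rfl
  rw [h1, frc_eq, frc_eq, ← Nat.shiftLeft_eq w]
  rfl

/-- the table of the next level -/
noncomputable def step (r w k W M O H Φ p : ℕ) : ℕ :=
  Nat.add (tree (Nat.add W W) (fun x => Nat.add (gt W M x)
      (Nat.shiftLeft (Nat.xor (rowf r W M O (gt w Φ x)) H) W)) k 0)
    (Nat.shiftLeft (tree (Nat.add W W) (fun x => Nat.add (Nat.xor (gt W M x) H)
      (Nat.shiftLeft (rowf r W M O (mul r w W M p (gt w Φ x))) W)) k 0) (Nat.shiftLeft (Nat.add W W) k))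

/-- the table of the presentation `R` -/
noncomputable def tab (r w : ℕ) (R : ℕ → ℕ → ℕ) (n : ℕ) : ℕ :=
  Nat.rec 0 (fun k M => frc M fun M => frc (Nat.shiftLeft w k) fun W => frc (ones w k) fun O =>
    frc (Nat.mul (Nat.pow 2 (Nat.add r k)) O) fun H => frc (phi r w W M (R k) k) fun Φ => frc (R k k) fun p =>
      step r w k W M O H Φ p) n

theorem tab_succ (r w : ℕ) (R : ℕ → ℕ → ℕ) (k : ℕ) : tab r w R (k + 1) =
    step r w k (w * 2 ^ k) (tab r w R k) (ones w k) (2 ^ (r + k) * ones w k)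
      (phi r w (w * 2 ^ k) (tab r w R k) (R k) k) (R k k) := by
  have h1 : tab r w R (k + 1) = frc (tab r w R k) fun M => frc (Nat.shiftLeft w k) fun W => frc (ones w k) fun O =>
    frc (Nat.mul (Nat.pow 2 (Nat.add r k)) O) fun H => frc (phi r w W M (R k) k) fun Φ => frc (R k k) fun p =>
      step r w k W M O H Φ p := rfl
  rw [h1, frc_eq, frc_eq, frc_eq, frc_eq, frc_eq, frc_eq, ← Nat.shiftLeft_eq w]
  rfl

variable {G : Type*} [Group G]

/-- `e` evaluates words, and the relations `R` hold. -/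
structure Ev (r n : ℕ) (R : ℕ → ℕ → ℕ) (e : ℕ → G) : Prop where
  zero : e 0 = 1
  top : ∀ k, k < n → ∀ A, A < 2 ^ (r + k) → e (A ^^^ 2 ^ (r + k)) = e (2 ^ (r + k)) * e A
  tail : ∀ t, t < 2 ^ r → ∀ A, e (A ^^^ t) = e A * e t
  cen : ∀ t, t < 2 ^ r → ∀ g, e t * g = g * e t
  pw : ∀ k, k < n → e (2 ^ (r + k)) * e (2 ^ (r + k)) = e (R k k)
  cj : ∀ k, k < n → ∀ j, j < k → e (2 ^ (r + j)) * e (2 ^ (r + k)) = e (2 ^ (r + k)) * e (R k j)
  bd : ∀ k, k < n → ∀ j, j ≤ k → R k j < 2 ^ (r + k)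

/-- `M` is a table of level `k`. -/
def TabOK (r w k M : ℕ) (e : ℕ → G) : Prop := ∀ a, a < 2 ^ k → ∀ b, b < 2 ^ k →
  gt w (gt (w * 2 ^ k) M a) b < 2 ^ (r + k) ∧ e (a <<< r) * e (b <<< r) = e (gt w (gt (w * 2 ^ k) M a) b)

variable {r n : ℕ} {R : ℕ → ℕ → ℕ} {e : ℕ → G}

theorem Ev.split (h : Ev r n R e) (A : ℕ) : e A = e ((A >>> r) <<< r) * e (low r A) := by
  rw [← h.tail _ (low_lt r A), ← split_low]

theorem pow_le_pow_add (r k : ℕ) : 2 ^ r ≤ 2 ^ (r + k) := Nat.pow_le_pow_right (by norm_num) (Nat.le_add_right _ _)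

theorem Ev.mul_spec (h : Ev r n R e) {w k M : ℕ} (hM : TabOK r w k M e) {A B : ℕ} (hA : A < 2 ^ (r + k))
    (hB : B < 2 ^ (r + k)) :
    mul r w (w * 2 ^ k) M A B < 2 ^ (r + k) ∧ e A * e B = e (mul r w (w * 2 ^ k) M A B) := by
  obtain ⟨h1, h2⟩ := hM _ (shiftRight_lt hA) _ (shiftRight_lt hB)
  rw [mul_eq]
  refine ⟨Nat.xor_lt_two_pow h1 ((low_lt r _).trans_le (pow_le_pow_add r k)), ?_⟩
  rw [h.tail _ (low_lt r _), ← h2, low_xor, h.tail _ (low_lt r B), h.split A, h.split B, mul_assoc, mul_assoc,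
    ← mul_assoc (e (low r A)), h.cen _ (low_lt r A), mul_assoc]

theorem Ev.rowf_spec (h : Ev r n R e) {w k M : ℕ} (hw : r + k ≤ w) (hM : TabOK r w k M e) {A : ℕ}
    (hA : A < 2 ^ (r + k)) : rowf r (w * 2 ^ k) M (ones w k) A < 2 ^ (w * 2 ^ k) ∧ ∀ b, b < 2 ^ k →
      gt w (rowf r (w * 2 ^ k) M (ones w k) A) b < 2 ^ (r + k) ∧
        e A * e (b <<< r) = e (gt w (rowf r (w * 2 ^ k) M (ones w k) A) b) := by
  obtain ⟨h1, h2⟩ := ones_spec (w := w) ((low_lt r A).trans_le (Nat.pow_le_pow_right (by norm_num) (by omega))) k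
  rw [rowf_eq]
  refine ⟨Nat.xor_lt_two_pow (gt_lt _ _ _) h1, fun b hb => ?_⟩
  obtain ⟨h3, h4⟩ := hM _ (shiftRight_lt hA) _ hb
  rw [gt_xor, h2 b hb]
  refine ⟨Nat.xor_lt_two_pow h3 ((low_lt r _).trans_le (pow_le_pow_add r k)), ?_⟩
  rw [h.tail _ (low_lt r _), ← h4, h.split A, mul_assoc, mul_assoc, h.cen _ (low_lt r A)]

theorem Ev.top' (h : Ev r n R e) {k a : ℕ} (hk : k < n) (ha : a < 2 ^ k) :
    e ((2 ^ k + a) <<< r) = e (2 ^ (r + k)) * e (a <<< r) := by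
  rw [top_shiftLeft ha, h.top k hk _ (shiftLeft_lt ha)]

theorem Ev.phi_spec (h : Ev r n R e) {w k M : ℕ} (hk : k < n) (hw : r + k ≤ w) (hM : TabOK r w k M e) :
    ∀ j, j ≤ k → phi r w (w * 2 ^ k) M (R k) j < 2 ^ (w * 2 ^ j) ∧ ∀ a, a < 2 ^ j →
      gt w (phi r w (w * 2 ^ k) M (R k) j) a < 2 ^ (r + k) ∧
        e (a <<< r) * e (2 ^ (r + k)) = e (2 ^ (r + k)) * e (gt w (phi r w (w * 2 ^ k) M (R k) j) a)
  | 0, _ => by
    refine ⟨Nat.two_pow_pos _, fun a ha => ?_⟩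
    obtain rfl : a = 0 := by simpa using ha
    have h1 : gt w (phi r w (w * 2 ^ k) M (R k) 0) 0 = 0 := gt_zero_of_lt (Nat.two_pow_pos w)
    rw [h1, Nat.zero_shiftLeft, h.zero, one_mul, mul_one]
    exact ⟨Nat.two_pow_pos _, rfl⟩
  | j + 1, hj => by
    have h0 : 2 ^ (j + 1) = 2 ^ j + 2 ^ j := by rw [pow_succ]; omega
    obtain ⟨h1, h2⟩ := h.phi_spec hk hw hM j (by omega)
    have h3 := fun a (ha : a < 2 ^ j) => h.mul_spec hM (h.bd k hk j (by omega)) (h2 a ha).1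
    obtain ⟨h4, h5⟩ := tree_spec (W := w)
      (f := fun y => mul r w (w * 2 ^ k) M (R k j) (gt w (phi r w (w * 2 ^ k) M (R k) j) y)) j 0 fun i hi => by
        rw [Nat.zero_add]
        exact (h3 i hi).1.trans_le (Nat.pow_le_pow_right (by norm_num) hw)
    rw [phi_succ]
    refine ⟨by rw [h0, Nat.mul_add]; exact cat_lt h1 h4, fun a ha => ?_⟩
    rw [gt_cat h1]
    split_ifs with h6
    · exact h2 a h6
    · obtain ⟨d, rfl⟩ : ∃ d, a = 2 ^ j + d := ⟨a - 2 ^ j, by omega⟩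
      have hd : d < 2 ^ j := by omega
      rw [Nat.add_sub_cancel_left, h5 d hd, Nat.zero_add]
      refine ⟨(h3 d hd).1, ?_⟩
      rw [← (h3 d hd).2, h.top' (by omega) hd, mul_assoc, (h2 d hd).2, ← mul_assoc, h.cj k hk j hj, mul_assoc]

theorem Ev.tabOK (h : Ev r n R e) {w : ℕ} (hw : r + n ≤ w) : ∀ k, k ≤ n → TabOK r w k (tab r w R k) e
  | 0, _ => by
    intro a ha b hb
    obtain rfl : a = 0 := by simpa using ha
    obtain rfl : b = 0 := by simpa using hb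
    have h1 : gt w (gt (w * 2 ^ 0) (tab r w R 0) 0) 0 = 0 := by
      rw [show tab r w R 0 = 0 from rfl, gt_zero_of_lt (Nat.two_pow_pos _), gt_zero_of_lt (Nat.two_pow_pos _)]
    rw [h1, Nat.zero_shiftLeft, h.zero, mul_one]
    exact ⟨Nat.two_pow_pos _, rfl⟩
  | k + 1, hk => by
    have hM := h.tabOK hw k (by omega)
    have h0 : 2 ^ (k + 1) = 2 ^ k + 2 ^ k := by rw [pow_succ]; omega
    have hW : w * 2 ^ (k + 1) = w * 2 ^ k + w * 2 ^ k := by rw [h0, Nat.mul_add]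
    have hle : 2 ^ (r + k) < 2 ^ (r + (k + 1)) := Nat.pow_lt_pow_right (by norm_num) (by omega)
    obtain ⟨-, hΦ⟩ := h.phi_spec (show k < n from hk) (show r + k ≤ w by omega) hM k le_rfl
    obtain ⟨hH, hH'⟩ := ones_spec (w := w) (t := 2 ^ (r + k)) (Nat.pow_lt_pow_right (by norm_num) (by omega)) k
    rw [tab_succ]
    set M := tab r w R k
    set Φ := phi r w (w * 2 ^ k) M (R k) k
    have hr := fun {A : ℕ} (hA : A < 2 ^ (r + k)) => h.rowf_spec (show r + k ≤ w by omega) hM hA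
    have hp := fun a (ha : a < 2 ^ k) => h.mul_spec hM (h.bd k hk k le_rfl) (hΦ a ha).1
    obtain ⟨h1, h2⟩ := tree_spec (W := w * 2 ^ k + w * 2 ^ k) (f := fun x => gt (w * 2 ^ k) M x +
      (rowf r (w * 2 ^ k) M (ones w k) (gt w Φ x) ^^^ 2 ^ (r + k) * ones w k) <<< (w * 2 ^ k)) k 0 fun i hi => by
        rw [Nat.zero_add]
        exact cat_lt (gt_lt _ _ _) (Nat.xor_lt_two_pow (hr (hΦ i hi).1).1 hH)
    obtain ⟨-, h4⟩ := tree_spec (W := w * 2 ^ k + w * 2 ^ k) (f := fun x =>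
      (gt (w * 2 ^ k) M x ^^^ 2 ^ (r + k) * ones w k) + (rowf r (w * 2 ^ k) M (ones w k)
        (mul r w (w * 2 ^ k) M (R k k) (gt w Φ x))) <<< (w * 2 ^ k)) k 0 fun i hi => by
        rw [Nat.zero_add]
        exact cat_lt (Nat.xor_lt_two_pow (gt_lt _ _ _) hH) (hr (hp i hi).1).1
    intro a ha b hb
    have h5 : step r w k (w * 2 ^ k) M (ones w k) (2 ^ (r + k) * ones w k) Φ (R k k) = _ + _ <<< (_ <<< k) := rfl
    rw [h5, Nat.shiftLeft_eq _ k, hW]
    erw [gt_cat h1]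
    by_cases ha' : a < 2 ^ k
    · rw [if_pos ha', h2 a ha', Nat.zero_add, gt_cat (gt_lt _ _ _)]
      by_cases hb' : b < 2 ^ k
      · rw [if_pos hb']
        exact ⟨(hM a ha' b hb').1.trans hle, (hM a ha' b hb').2⟩
      · obtain ⟨d, rfl⟩ : ∃ d, b = 2 ^ k + d := ⟨b - 2 ^ k, by omega⟩
        have hd : d < 2 ^ k := by omega
        obtain ⟨h6, h7⟩ := (hr (hΦ a ha').1).2 d hd
        rw [if_neg hb', Nat.add_sub_cancel_left, gt_xor, hH' d hd]
        refine ⟨Nat.xor_lt_two_pow (h6.trans hle) hle, ?_⟩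
        rw [h.top k hk _ h6, ← h7, h.top' hk hd, ← mul_assoc, (hΦ a ha').2, mul_assoc]
    · obtain ⟨c, rfl⟩ : ∃ d, a = 2 ^ k + d := ⟨a - 2 ^ k, by omega⟩
      have hc : c < 2 ^ k := by omega
      rw [if_neg ha', Nat.add_sub_cancel_left]
      erw [h4 c hc]
      rw [Nat.zero_add, gt_cat (Nat.xor_lt_two_pow (gt_lt _ _ _) hH)]
      by_cases hb' : b < 2 ^ k
      · rw [if_pos hb', gt_xor, hH' b hb']
        refine ⟨Nat.xor_lt_two_pow ((hM c hc b hb').1.trans hle) hle, ?_⟩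
        rw [h.top k hk _ (hM c hc b hb').1, ← (hM c hc b hb').2, h.top' hk hc, mul_assoc]
      · obtain ⟨d, rfl⟩ : ∃ d, b = 2 ^ k + d := ⟨b - 2 ^ k, by omega⟩
        have hd : d < 2 ^ k := by omega
        obtain ⟨h6, h7⟩ := (hr (hp c hc).1).2 d hd
        rw [if_neg hb', Nat.add_sub_cancel_left]
        refine ⟨h6.trans hle, ?_⟩
        rw [← h7, ← (hp c hc).2, ← h.pw k hk, h.top' hk hc, h.top' hk hd, mul_assoc, ← mul_assoc (e (c <<< r)),
          (hΦ c hc).2]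
        simp only [mul_assoc]

/-- A sound multiplication of words. -/
def Mu (N : ℕ) (e : ℕ → G) (m : ℕ → ℕ → ℕ) : Prop :=
  ∀ A, A < 2 ^ N → ∀ B, B < 2 ^ N → m A B < 2 ^ N ∧ e A * e B = e (m A B)

theorem Ev.mul_tab (h : Ev r n R e) : Mu (r + n) e (mul r (r + n) ((r + n) <<< n) (tab r (r + n) R n)) := by
  intro A hA B hB
  rw [Nat.shiftLeft_eq]
  exact h.mul_spec (h.tabOK le_rfl n le_rfl) hA hB

end Cfsg.Agent.FS.Gen
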